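/-
CIT groups: the centraliser of every involution is a 2-group.

* `IsCIT`, `IsCIT.subgroup`, `IsCIT.quotient`
* `IsCIT.fpf` : elements of odd order act without fixed points on 2-subgroups
* `IsCIT.centralizer_pCore_le` : a nontrivial 2-core contains its centraliser
* `IsCIT.exists_lift` : an involution outside the 2-core modulo it lifts to an involution inverting
  an element of odd order
* `card_fix_sq_le`, `fix_half` : fixed points of such an involution on a 2-group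
* `omegaZ` : the involutions of the centre
-/
import Cfsg.Agent.EqLemmas
import Cfsg.Agent.Lib.Involution.BaerSuzuki
import Cfsg.Agent.Lib.Signalizer.PAction
import Cfsg.Agent.Lib.Solvable.SchurZassenhaus
import Cfsg.Agent.Lib.Cores.Basic
import Cfsg.Agent.Lib.PGroup.Basic
import Cfsg.Prelude.Def_Solvable

set_option autoImplicit false

open Cfsg
open scoped Pointwise

namespace Cfsg.Agent.CIT

variable {G : Type*} [Group G]

/-- The centraliser of every involution is a 2-group. -/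
def IsCIT (G : Type*) [Group G] : Prop :=
  ∀ t : G, orderOf t = 2 → IsPGroup 2 (Subgroup.centralizer ({t} : Set G))

/-- The elements of `D` squaring to one and commuting with `D`. -/
def omegaZ (D : Subgroup G) : Subgroup G where
  carrier := {w | w ∈ D ∧ w * w = 1 ∧ ∀ d ∈ D, d * w = w * d}
  one_mem' := ⟨D.one_mem, mul_one 1, fun d _ => by rw [mul_one, one_mul]⟩
  mul_mem' := fun {v w} ⟨hv, hv2, hvc⟩ ⟨hw, hw2, hwc⟩ => ⟨D.mul_mem hv hw, by
      rw [(show Commute w v from hvc w hw).mul_mul_mul_comm, hv2, hw2, mul_one],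
    fun d hd => (show Commute d v from hvc d hd).mul_right (hwc d hd)⟩
  inv_mem' := fun {v} ⟨hv, hv2, hvc⟩ => ⟨D.inv_mem hv, by rw [← mul_inv_rev, hv2, inv_one],
    fun d hd => (show Commute d v from hvc d hd).inv_right⟩

theorem omegaZ_le (D : Subgroup G) : omegaZ D ≤ D := fun _ h => h.1

theorem omegaZ_sq {D : Subgroup G} {w : G} (h : w ∈ omegaZ D) : w * w = 1 := h.2.1

theorem omegaZ_comm {D : Subgroup G} {w d : G} (h : w ∈ omegaZ D) (hd : d ∈ D) : d * w = w * d :=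
  h.2.2 d hd

theorem conj_mem_omegaZ {D : Subgroup G} {g w : G} (hg : g ∈ Subgroup.normalizer (D : Set G))
    (hw : w ∈ omegaZ D) : g * w * g⁻¹ ∈ omegaZ D := by
  refine ⟨(Subgroup.mem_normalizer_iff.1 hg w).1 hw.1, ?_, fun d hd => ?_⟩
  · rw [_root_.conj_mul, hw.2.1, mul_one, mul_inv_cancel]
  · have hd' := (Subgroup.mem_normalizer_iff''.1 hg d).1 hd
    calc d * (g * w * g⁻¹) = g * ((g⁻¹ * d * g) * w) * g⁻¹ := by group
      _ = g * (w * (g⁻¹ * d * g)) * g⁻¹ := by rw [hw.2.2 _ hd']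
      _ = g * w * g⁻¹ * d := by group

theorem normalizer_le_omegaZ (D : Subgroup G) :
    Subgroup.normalizer (D : Set G) ≤ Subgroup.normalizer (omegaZ D : Set G) := fun g hg =>
  Subgroup.mem_normalizer_iff.2 fun w => ⟨conj_mem_omegaZ hg, fun hw => by
    have := conj_mem_omegaZ (Subgroup.inv_mem _ hg) hw
    rwa [show g⁻¹ * (g * w * g⁻¹) * g⁻¹⁻¹ = w by group] at this⟩

variable [Finite G]

theorem omegaZ_ne_bot {D : Subgroup G} (hD : IsPGroup 2 D) (hD1 : D ≠ ⊥) : omegaZ D ≠ ⊥ := by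
  haveI : Fact (Nat.Prime 2) := ⟨Nat.prime_two⟩
  haveI : Nontrivial D := D.nontrivial_iff_ne_bot.2 hD1
  haveI := hD.center_nontrivial
  obtain ⟨n, hn⟩ := IsPGroup.iff_card.1 (hD.to_subgroup (Subgroup.center D))
  have h2 : 2 ∣ Nat.card (Subgroup.center D) := by
    have h1 := Finite.one_lt_card (α := Subgroup.center D)
    rw [hn] at h1 ⊢
    exact dvd_pow_self 2 (by rintro rfl; simp at h1)
  obtain ⟨z, hz⟩ := exists_prime_orderOf_dvd_card' 2 h2
  have hz' : orderOf ((z : D) : G) = 2 := by rw [Subgroup.orderOf_coe, Subgroup.orderOf_coe, hz]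
  intro h
  have hmem : ((z : D) : G) ∈ omegaZ D := ⟨(z : D).2, Involution.mul_self hz', fun d hd =>
    congrArg Subtype.val (Subgroup.mem_center_iff.1 z.2 ⟨d, hd⟩)⟩
  rw [h, Subgroup.mem_bot] at hmem
  exact Involution.ne_one hz' hmem

/-- An element of odd order is not a nontrivial 2-element. -/
theorem eq_one_of_two_pow {x : G} (hodd : Odd (orderOf x)) {k : ℕ} (h : x ^ 2 ^ k = 1) : x = 1 :=
  orderOf_eq_one_iff.1 (Nat.eq_one_of_dvd_coprimes
    ((Nat.coprime_two_left.2 hodd).pow_left k) (orderOf_dvd_of_pow_eq_one h) dvd_rfl)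

theorem eq_one_of_mem_two {Q : Subgroup G} (hQ : IsPGroup 2 Q) {x : G} (hx : x ∈ Q)
    (hodd : Odd (orderOf x)) : x = 1 := by
  obtain ⟨k, hk⟩ := hQ ⟨x, hx⟩
  exact eq_one_of_two_pow hodd (congrArg Subtype.val hk)

/-- A group without elements of odd prime order is a 2-group. -/
theorem isPGroup_two_of_no_odd {A : Type*} [Group A] [Finite A]
    (h : ∀ r : ℕ, r.Prime → r ≠ 2 → ∀ a : A, orderOf a ≠ r) : IsPGroup 2 A := by
  refine IsPGroup.of_card (Nat.eq_prime_pow_of_unique_prime_dvd (Nat.card_pos (α := A)).ne' fun {r} hr hd => ?_)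
  by_contra h2
  haveI := Fact.mk hr
  obtain ⟨a, ha⟩ := exists_prime_orderOf_dvd_card' r hd
  exact h r hr h2 a ha

/-- The odd power of an element outside a 2-subgroup: an element of odd prime order. -/
theorem exists_odd_prime_of_not_two {H : Subgroup G} (hH : ¬ IsPGroup 2 H) :
    ∃ y ∈ H, ∃ r : ℕ, r.Prime ∧ r ≠ 2 ∧ orderOf y = r := by
  by_contra hcon
  push Not at hcon
  exact hH (isPGroup_two_of_no_odd (A := H) fun r hr h2 a ha =>
    hcon a a.2 r hr h2 (by rw [Subgroup.orderOf_coe, ha]))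

namespace IsCIT

variable (hG : IsCIT G)
include hG

theorem eq_one_of_commute {t y : G} (ht : orderOf t = 2) (hy : Odd (orderOf y)) (h : y * t = t * y) :
    y = 1 :=
  eq_one_of_mem_two (hG t ht) (Subgroup.mem_centralizer_singleton_iff.2 h) hy

/-- Elements of odd order act without fixed points on 2-subgroups. -/
theorem fpf {Q : Subgroup G} (hQ : IsPGroup 2 Q) {q y : G} (hq : q ∈ Q) (hq1 : q ≠ 1)
    (hy : Odd (orderOf y)) (h : y * q = q * y) : y = 1 := by
  obtain ⟨k, hk⟩ := hQ ⟨q, hq⟩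
  have hd : orderOf q ∣ 2 ^ k := orderOf_dvd_of_pow_eq_one (congrArg Subtype.val hk)
  have h2 : 2 ∣ orderOf q := by
    obtain ⟨j, -, hj⟩ := (Nat.dvd_prime_pow Nat.prime_two).1 hd
    rw [hj]
    refine dvd_pow_self 2 ?_
    rintro rfl
    exact hq1 (orderOf_eq_one_iff.1 (by simpa using hj))
  exact hG.eq_one_of_commute (orderOf_pow_orderOf_div (orderOf_pos q).ne' h2) hy
    ((show Commute y q from h).pow_right _).eq

theorem fpf' {Q : Subgroup G} (hQ : IsPGroup 2 Q) {q y : G} (hq : q ∈ Q) (hy1 : y ≠ 1)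
    (hy : Odd (orderOf y)) (h : y * q = q * y) : q = 1 :=
  by_contra fun hq1 => hy1 (hG.fpf hQ hq hq1 hy h)

omit [Finite G] in
theorem subgroup (H : Subgroup G) : IsCIT H := by
  intro t ht
  have ht' : orderOf (t : G) = 2 := by rw [Subgroup.orderOf_coe, ht]
  rintro ⟨x, hx⟩
  rw [Subgroup.mem_centralizer_singleton_iff] at hx
  obtain ⟨k, hk⟩ := hG (t : G) ht' ⟨(x : G), Subgroup.mem_centralizer_singleton_iff.2 (congrArg Subtype.val hx)⟩
  exact ⟨k, Subtype.ext (Subtype.ext (congrArg Subtype.val hk :))⟩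

theorem quotient (Q : Subgroup G) [Q.Normal] (hQ : IsPGroup 2 Q) : IsCIT (G ⧸ Q) := by
  intro tb htb
  refine isPGroup_two_of_no_odd fun r hr hr2 a ha => ?_
  haveI := Fact.mk hr
  have hrodd : Odd r := hr.odd_of_ne_two hr2
  obtain ⟨y₀, hy₀⟩ := QuotientGroup.mk'_surjective Q (a : G ⧸ Q)
  obtain ⟨t₀, ht₀⟩ := QuotientGroup.mk'_surjective Q tb
  obtain ⟨i, m, hm, hn⟩ := Nat.exists_eq_pow_mul_and_not_dvd (orderOf_pos y₀).ne' r hr.ne_one
  set y := y₀ ^ m with hy
  have hyr : y ^ r ^ i = 1 := by rw [hy, ← pow_mul, mul_comm, ← hn, pow_orderOf_eq_one]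
  have hao : orderOf (a : G ⧸ Q) = r := by rw [Subgroup.orderOf_coe, ha]
  have hyQ : y ∉ Q := by
    intro h
    rw [← QuotientGroup.eq_one_iff] at h
    change QuotientGroup.mk' Q (y₀ ^ m) = 1 at h
    rw [map_pow, hy₀, ← orderOf_dvd_iff_pow_eq_one, hao] at h
    exact hm h
  have hY : IsPGroup r (Subgroup.zpowers y) := by
    rintro ⟨_, j, rfl⟩
    refine ⟨i, Subtype.ext ?_⟩
    show (y ^ j) ^ (r ^ i) = 1
    rw [← zpow_natCast (y ^ j), ← zpow_mul, mul_comm, zpow_mul, zpow_natCast, hyr, one_zpow]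
  have hnd : ¬ r ∣ Nat.card Q := by
    intro hd
    obtain ⟨j, hj⟩ := IsPGroup.iff_card.1 hQ
    rw [hj] at hd
    exact hr2 ((Nat.prime_dvd_prime_iff_eq hr Nat.prime_two).1 (hr.dvd_of_dvd_pow hd))
  have hc : Commute (QuotientGroup.mk' Q y) (QuotientGroup.mk' Q t₀) := by
    rw [hy, map_pow, hy₀, ht₀]
    exact Commute.pow_left (Subgroup.mem_centralizer_singleton_iff.1 a.2) m
  obtain ⟨n, hn', hnc⟩ := Signalizer.exists_fixed_in_coset hY
    (by rw [Subgroup.normalizer_eq_top]; exact le_top) hnd t₀ (by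
      intro b hb
      obtain ⟨j, rfl⟩ := Subgroup.mem_zpowers_iff.1 hb
      rw [← QuotientGroup.eq_one_iff]
      change QuotientGroup.mk' Q (y ^ j * t₀ * (y ^ j)⁻¹ * t₀⁻¹) = 1
      rw [map_mul, map_mul, map_mul, map_inv, map_inv, map_zpow, (hc.zpow_left j).eq]
      group)
  have hts : (n * t₀) * (n * t₀) ∈ Q := by
    rw [← QuotientGroup.eq_one_iff]
    change QuotientGroup.mk' Q (n * t₀ * (n * t₀)) = 1
    rw [map_mul, map_mul, QuotientGroup.mk'_apply, (QuotientGroup.eq_one_iff n).2 hn', one_mul, ht₀,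
      Involution.mul_self htb]
  have hyt : y * (n * t₀) = (n * t₀) * y :=
    Subgroup.mem_centralizer_iff.1 hnc y (Subgroup.mem_zpowers y)
  have hyodd : Odd (orderOf y) :=
    (hrodd.pow (n := i)).of_dvd_nat (orderOf_dvd_of_pow_eq_one hyr)
  obtain ⟨k, hk⟩ := hQ ⟨_, hts⟩
  have hpow : (n * t₀) ^ 2 ^ (k + 1) = 1 := by
    rw [pow_succ', pow_mul, pow_two]
    exact congrArg Subtype.val hk
  obtain ⟨j, -, hj⟩ := (Nat.dvd_prime_pow Nat.prime_two).1 (orderOf_dvd_of_pow_eq_one hpow)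
  have hnt1 : n * t₀ ≠ 1 := fun h => Involution.ne_one htb (by
    rw [← ht₀, eq_inv_of_mul_eq_one_right h]
    exact (QuotientGroup.eq_one_iff _).2 (Q.inv_mem hn'))
  refine hyQ (hG.fpf (IsPGroup.of_card (n := j) (by rw [Nat.card_zpowers, hj]))
    (Subgroup.mem_zpowers (n * t₀)) hnt1 hyodd hyt ▸ Q.one_mem)

theorem centralizer_le {Q : Subgroup G} (hQ : IsPGroup 2 Q) (hQ1 : Q ≠ ⊥) :
    IsPGroup 2 (Subgroup.centralizer (Q : Set G)) := by
  obtain ⟨q, hq, hq1⟩ : ∃ q ∈ Q, q ≠ 1 := by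
    obtain ⟨⟨q, hq⟩, hq1⟩ := Q.ne_bot_iff_exists_ne_one.1 hQ1
    exact ⟨q, hq, fun e => hq1 (Subtype.ext e)⟩
  by_contra hcon
  obtain ⟨y, hy, r, hr, hr2, hyr⟩ := exists_odd_prime_of_not_two hcon
  have hy1 := hG.fpf hQ hq hq1 (hyr ▸ hr.odd_of_ne_two hr2) (Subgroup.mem_centralizer_iff.1 hy q hq).symm
  rw [hy1, orderOf_one] at hyr
  exact hr.one_lt.ne hyr

theorem centralizer_pCore_le (hO : pCore 2 G ≠ ⊥) :
    Subgroup.centralizer (pCore 2 G : Set G) ≤ pCore 2 G :=
  Cores.le_pCore inferInstance (hG.centralizer_le (Cores.isPGroup_pCore 2 G) hO)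

/-- An involution outside the 2-core modulo it lifts to an involution inverting an element of odd
order. -/
theorem exists_lift (hO : pCore 2 G ≠ ⊥) {u : G} (hu : u ∉ pCore 2 G) (hu2 : u * u ∈ pCore 2 G) :
    ∃ q ∈ pCore 2 G, orderOf (q * u) = 2 ∧
      ∃ y : G, y ≠ 1 ∧ Odd (orderOf y) ∧ (q * u) * y * (q * u)⁻¹ = y⁻¹ := by
  haveI : Fact (Nat.Prime 2) := ⟨Nat.prime_two⟩
  set Q := pCore 2 G with hQdef
  have hQ : IsPGroup 2 Q := Cores.isPGroup_pCore 2 G
  set f := QuotientGroup.mk' Q with hf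
  have hub : orderOf (f u) = 2 := Involution.orderOf_of_sq
    (by rw [← map_mul]; exact (QuotientGroup.eq_one_iff _).2 hu2) fun h => hu ((QuotientGroup.eq_one_iff u).1 h)
  obtain ⟨hb, hb1, hbodd, hbinv⟩ := Involution.exists_inverted_odd hub fun N hN hNp hmem => by
    have := Cores.le_pCore hN hNp hmem
    rw [Cores.pCore_quotient_self, Subgroup.mem_bot] at this
    exact Involution.ne_one hub this
  obtain ⟨y₀, hy₀⟩ := QuotientGroup.mk'_surjective Q hb
  obtain ⟨a, m, hm, hn⟩ := Nat.exists_eq_two_pow_mul_odd (orderOf_pos y₀).ne'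
  set y := y₀ ^ 2 ^ a with hy
  have hyodd : Odd (orderOf y) := hm.of_dvd_nat
    (orderOf_dvd_of_pow_eq_one (by rw [hy, ← pow_mul, ← hn, pow_orderOf_eq_one]))
  have hfy : f y = hb ^ 2 ^ a := by rw [hy, map_pow, hy₀]
  have hy1 : y ≠ 1 := fun h => hb1 (eq_one_of_two_pow hbodd (k := a) (by rw [← hfy, h, map_one]))
  set Y := Subgroup.zpowers y with hYdef
  have hcY : (Nat.card Y).Coprime (Nat.card Q) := by
    obtain ⟨j, hj⟩ := IsPGroup.iff_card.1 hQ
    rw [Nat.card_zpowers, hj]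
    exact (Nat.coprime_two_right.2 hyodd).pow_right j
  have hdisj : ∀ z ∈ Y, z ∈ Q → z = 1 := fun z hz hzQ =>
    orderOf_eq_one_iff.1 (Nat.eq_one_of_dvd_coprimes hcY (Subgroup.orderOf_dvd_natCard Y hz)
      (Subgroup.orderOf_dvd_natCard Q hzQ))
  set H := Y.map (MulAut.conj u).toMonoidHom with hH
  have hHY : f (u * y * u⁻¹) = f y⁻¹ := by
    have hbinv' : f u * hb ^ 2 ^ a * (f u)⁻¹ = (hb ^ 2 ^ a)⁻¹ := by rw [← conj_pow, hbinv, inv_pow]
    rw [map_mul, map_mul, map_inv, map_inv, hfy]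
    exact hbinv'
  have hmem : ∀ {x z : G}, f x = f z → x * z⁻¹ ∈ Q := fun {x z} h => by
    rw [← QuotientGroup.eq_one_iff]
    change f (x * z⁻¹) = 1
    rw [map_mul, map_inv, h, mul_inv_cancel]
  have hsup : H ⊔ Q = Y ⊔ Q := by
    refine le_antisymm (sup_le ?_ le_sup_right) (sup_le ?_ le_sup_right)
    · rw [hH, hYdef, MonoidHom.map_zpowers, Subgroup.zpowers_le]
      show u * y * u⁻¹ ∈ _
      have : u * y * u⁻¹ = (u * y * u⁻¹ * y⁻¹⁻¹) * y⁻¹ := by group
      rw [this]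
      exact mul_mem (Subgroup.mem_sup_right (hmem hHY))
        (Subgroup.mem_sup_left (Y.inv_mem (Subgroup.mem_zpowers y)))
    · rw [hYdef, Subgroup.zpowers_le]
      have : y = (u * y * u⁻¹)⁻¹ * ((u * y * u⁻¹) * y⁻¹⁻¹) := by group
      rw [this]
      exact mul_mem (Subgroup.mem_sup_left (H.inv_mem ⟨y, Subgroup.mem_zpowers y, rfl⟩))
        (Subgroup.mem_sup_right (hmem hHY))
  obtain ⟨n, hn', hne⟩ := Solvable.exists_conj_of_sup_eq (Or.inl (have := hQ.isNilpotent; inferInstance)) hsup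
    (by rwa [hH, Subgroup.card_map_of_injective (MulAut.conj u).injective]) hcY
  set v := n * u with hv
  have hvy : v * y * v⁻¹ ∈ Y := by
    rw [← hne]
    refine ⟨u * y * u⁻¹, ⟨y, Subgroup.mem_zpowers y, rfl⟩, ?_⟩
    show n * (u * y * u⁻¹) * n⁻¹ = _
    rw [hv]; group
  have hfn : f n = 1 := (QuotientGroup.eq_one_iff n).2 hn'
  have hinv : v * y * v⁻¹ = y⁻¹ := by
    refine mul_inv_eq_one.1 (hdisj _ (Y.mul_mem hvy (Y.inv_mem (Y.inv_mem (Subgroup.mem_zpowers y)))) (hmem ?_))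
    rw [map_mul, map_mul, map_inv, hv, map_mul, hfn, one_mul, ← map_inv f u, ← map_mul, ← map_mul, hHY]
  have hv2 : v * v ∈ Q := by
    rw [← QuotientGroup.eq_one_iff]
    change f (n * u * (n * u)) = 1
    rw [map_mul, map_mul, hfn, one_mul, Involution.mul_self hub]
  have hc : y * (v * v) = v * v * y := by
    have h2 : (v * v) * y * (v * v)⁻¹ = y := by
      calc (v * v) * y * (v * v)⁻¹ = v * (v * y * v⁻¹) * v⁻¹ := by group
        _ = y := by rw [hinv, ← _root_.conj_inv, hinv, inv_inv]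
    exact (mul_inv_eq_iff_eq_mul.1 h2).symm
  have hv1 : v ≠ 1 := fun h => hu (by
    rw [eq_inv_of_mul_eq_one_right h]; exact Q.inv_mem hn')
  exact ⟨n, hn', Involution.orderOf_of_sq (hG.fpf' hQ hv2 hy1 hyodd hc) hv1, y, hy1, hyodd, hinv⟩

end IsCIT

section Half

variable (hG : IsCIT G) {D : Subgroup G} (hD : IsPGroup 2 D) {u y : G} (hu : orderOf u = 2)
  (hy1 : y ≠ 1) (hyodd : Odd (orderOf y)) (hinv : u * y * u⁻¹ = y⁻¹)
  (hyD : y ∈ Subgroup.normalizer (D : Set G))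
include hG hD hu hy1 hyodd hinv hyD

/-- The fixed points of an involution inverting an element of odd order have at most the square
root of the order. -/
theorem card_fix_sq_le :
    Nat.card ↥(D ⊓ Subgroup.centralizer ({u} : Set G)) ^ 2 ≤ Nat.card D := by
  obtain ⟨k, hk⟩ := hyodd
  set z := y ^ (k + 1) with hz
  have hz2 : z * z = y := by
    rw [hz, ← pow_add, show k + 1 + (k + 1) = orderOf y + 1 by omega, pow_succ, pow_orderOf_eq_one, one_mul]
  have hui : u * z * u⁻¹ = z⁻¹ := by rw [hz, ← conj_pow, hinv, inv_pow]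
  have hw : z⁻¹ * u * z = u * y := by
    rw [← hui, ← hz2]
    calc u * z * u⁻¹ * u * z = u * (z * z) := by group
      _ = _ := rfl
  have hzD : z ∈ Subgroup.normalizer (D : Set G) := Subgroup.pow_mem _ hyD _
  set C := D ⊓ Subgroup.centralizer ({u} : Set G) with hC
  have := Nat.card_le_card_of_injective (fun p : C × C =>
    (⟨(p.1 : G) * (z⁻¹ * p.2 * z), D.mul_mem p.1.2.1
      ((Subgroup.mem_normalizer_iff''.1 hzD _).1 p.2.2.1)⟩ : D)) (by
    rintro ⟨a, b⟩ ⟨a', b'⟩ h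
    have h' : (a : G) * (z⁻¹ * b * z) = (a' : G) * (z⁻¹ * b' * z) := congrArg Subtype.val h
    have e : (a' : G)⁻¹ * a = z⁻¹ * ((b' : G) * (b : G)⁻¹) * z := by
      calc (a' : G)⁻¹ * a = (a' : G)⁻¹ * ((a : G) * (z⁻¹ * b * z)) * (z⁻¹ * b * z)⁻¹ := by group
        _ = _ := by rw [h']; group
    have hca : ((a' : G)⁻¹ * a) * u = u * ((a' : G)⁻¹ * a) :=
      Subgroup.mem_centralizer_singleton_iff.1 (Subgroup.mul_mem _ (Subgroup.inv_mem _ a'.2.2) a.2.2)
    have hcb : ((b' : G) * (b : G)⁻¹) * u = u * ((b' : G) * (b : G)⁻¹) :=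
      Subgroup.mem_centralizer_singleton_iff.1 (Subgroup.mul_mem _ b'.2.2 (Subgroup.inv_mem _ b.2.2))
    have hca' : ((a' : G)⁻¹ * a) * (u * y) = (u * y) * ((a' : G)⁻¹ * a) := by
      rw [← hw, e]
      calc z⁻¹ * ((b' : G) * (b : G)⁻¹) * z * (z⁻¹ * u * z) = z⁻¹ * ((b' : G) * (b : G)⁻¹ * u) * z := by group
        _ = z⁻¹ * (u * ((b' : G) * (b : G)⁻¹)) * z := by rw [hcb]
        _ = _ := by group
    have hcy : y * ((a' : G)⁻¹ * a) = ((a' : G)⁻¹ * a) * y := by
      have h1 := Commute.mul_right (show Commute ((a' : G)⁻¹ * a) u from hca).inv_right hca'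
      rw [inv_mul_cancel_left] at h1
      exact h1.symm
    have h1 := hG.fpf' hD (D.mul_mem (D.inv_mem a'.2.1) a.2.1) hy1 ⟨k, hk⟩ hcy
    have haa : a = a' := Subtype.ext (inv_mul_eq_one.1 h1).symm
    subst haa
    exact Prod.ext rfl (Subtype.ext (mul_left_cancel (mul_right_cancel (mul_left_cancel h')))))
  rwa [Nat.card_prod, ← pow_two] at this

/-- On an elementary abelian group the fixed points are half, and all of them are commutators. -/
theorem fix_half (huD : u ∈ Subgroup.normalizer (D : Set G)) (hel : ∀ d ∈ D, d * d = 1) :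
    Nat.card D = Nat.card ↥(D ⊓ Subgroup.centralizer ({u} : Set G)) ^ 2 ∧
      ∀ c ∈ D ⊓ Subgroup.centralizer ({u} : Set G), ∃ d ∈ D, d * (u * d * u⁻¹) = c := by
  set C := D ⊓ Subgroup.centralizer ({u} : Set G) with hC
  have hle := card_fix_sq_le hG hD hu hy1 hyodd hinv hyD
  have hcomm : ∀ a ∈ D, ∀ b ∈ D, a * b = b * a := fun a ha b hb => by
    have h := hel _ (D.mul_mem ha hb)
    calc a * b = (a * b) * ((a * b) * (a * b))⁻¹ := by rw [h, inv_one, mul_one]
      _ = b⁻¹ * a⁻¹ := by group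
      _ = b * a := by rw [inv_eq_of_mul_eq_one_right (hel b hb), inv_eq_of_mul_eq_one_right (hel a ha)]
  have hcu : ∀ d ∈ D, u * d * u⁻¹ ∈ D := fun d hd => (Subgroup.mem_normalizer_iff.1 huD d).1 hd
  have huu := Involution.mul_self hu
  let φ : D →* C := MonoidHom.mk' (fun d => ⟨(d : G) * (u * d * u⁻¹), ⟨D.mul_mem d.2 (hcu d d.2), by
      refine Subgroup.mem_centralizer_singleton_iff.2 ?_
      have e : u * ((d : G) * (u * d * u⁻¹)) = ((d : G) * (u * d * u⁻¹)) * u := by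
        calc u * ((d : G) * (u * d * u⁻¹)) = (u * d * u⁻¹) * (u * u) * (d : G) * (u⁻¹ * u⁻¹) * u := by group
          _ = (u * d * u⁻¹) * (d : G) * u := by rw [← mul_inv_rev, huu, inv_one, mul_one, mul_one]
          _ = _ := by rw [hcomm _ (hcu d d.2) d d.2]
      exact e.symm⟩⟩) (by
    intro a b
    refine Subtype.ext ?_
    show (a : G) * b * (u * ((a : G) * b) * u⁻¹) = (a : G) * (u * a * u⁻¹) * ((b : G) * (u * b * u⁻¹))
    rw [show u * ((a : G) * b) * u⁻¹ = (u * a * u⁻¹) * (u * b * u⁻¹) by group, mul_assoc, mul_assoc (a : G),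
      ← mul_assoc (b : G), hcomm b b.2 _ (hcu a a.2), mul_assoc (u * (a : G) * u⁻¹)])
  have hker : φ.ker ≤ C.subgroupOf D := fun d hd => by
    have h : (d : G) * (u * d * u⁻¹) = 1 := congrArg Subtype.val hd
    refine Subgroup.mem_subgroupOf.2 ⟨d.2, Subgroup.mem_centralizer_singleton_iff.2 ?_⟩
    have h1 : u * d * u⁻¹ = (d : G) := by
      rw [eq_inv_of_mul_eq_one_right h, inv_eq_of_mul_eq_one_right (hel d d.2)]
    exact (mul_inv_eq_iff_eq_mul.1 h1).symm
  have h1 : Nat.card φ.ker ≤ Nat.card C :=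
    (Subgroup.card_le_of_le hker).trans (le_of_eq (Cores.card_subgroupOf inf_le_left))
  have h2 : Nat.card φ.ker * Nat.card φ.range = Nat.card D := by
    rw [← Subgroup.index_ker, Subgroup.card_mul_index]
  have h3 : Nat.card φ.range ≤ Nat.card C := Subgroup.card_le_card_group _
  have h4 : 0 < Nat.card C := Nat.card_pos
  have hrange : φ.range = ⊤ := by
    refine Subgroup.eq_top_of_card_eq _ (le_antisymm h3 ?_)
    by_contra hlt
    push Not at hlt
    nlinarith
  refine ⟨le_antisymm ?_ hle, fun c hc => ?_⟩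
  · rw [← h2, pow_two]
    exact Nat.mul_le_mul h1 h3
  · obtain ⟨d, hd⟩ := hrange.ge (Subgroup.mem_top (⟨c, hc⟩ : C))
    exact ⟨d, d.2, congrArg Subtype.val hd⟩

end Half

end Cfsg.Agent.CIT
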