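/-
CIT groups with a nontrivial 2-core and TI Sylow 2-subgroups modulo it: offenders.

* `TIMod` : two Sylow 2-subgroups meet in the 2-core
* `exists_evenTI` : without 2-core and odd normal subgroups such a group is an `EvenTI` group
* `Natural` : the data of a natural module
* `natural_of_offender` : an offender on the involutions of the centre of the 2-core forces a natural module
-/
import Cfsg.Agent.Lib.CIT.Basic
import Cfsg.Agent.Lib.CN.EvenTI

set_option autoImplicit false

open Cfsg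

namespace Cfsg.Agent.CIT

variable {G : Type*} [Group G]

/-- Two Sylow 2-subgroups meet in the 2-core. -/
def TIMod (G : Type*) [Group G] : Prop :=
  ∀ S T : Sylow 2 G, (S : Subgroup G) ≠ T → (S : Subgroup G) ⊓ T = pCore 2 G

/-- `omegaZ D` is a natural module of `N(D)/D`, which has order `(q + 1) q (q - 1)` and elementary
abelian Sylow 2-subgroup `T/D`. -/
structure Natural (D T : Subgroup G) (q : ℕ) : Prop where
  q_pow : ∃ n : ℕ, 1 ≤ n ∧ q = 2 ^ n
  relIndex : D.relIndex T = q
  card_W : Nat.card (omegaZ D) = q ^ 2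
  card_fix : Nat.card ↥(omegaZ D ⊓ Subgroup.centralizer (T : Set G)) = q
  fix : ∀ a ∈ T, a ∉ D → ∀ w ∈ omegaZ D, a * w = w * a → w ∈ Subgroup.centralizer (T : Set G)
  sq : ∀ a ∈ T, a * a ∈ D
  comm : ∀ a ∈ T, ∀ b ∈ T, a * b * a⁻¹ * b⁻¹ ∈ D
  card_N : Nat.card (Subgroup.normalizer (D : Set G)) = Nat.card D * ((q + 1) * q * (q - 1))

variable [Finite G]

theorem sylow_eq_of_inf_ne {S T : Sylow 2 G} (hTI : TIMod G) (hO : pCore 2 G = ⊥) {x : G}
    (hxS : x ∈ (S : Subgroup G)) (hxT : x ∈ (T : Subgroup G)) (hx1 : x ≠ 1) :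
    (S : Subgroup G) = T := by
  by_contra h
  have : x ∈ (S : Subgroup G) ⊓ T := ⟨hxS, hxT⟩
  rw [hTI S T h, hO] at this
  exact hx1 (Subgroup.mem_bot.1 this)

/-- Without 2-core and odd normal subgroups we are in the `EvenTI` situation. -/
theorem exists_evenTI (hG : IsCIT G) (hTI : TIMod G) (hO : pCore 2 G = ⊥) (S : Sylow 2 G)
    (h2 : 2 ∣ Nat.card G) (hodd : ∀ M : Subgroup G, M.Normal → Odd (Nat.card M) → M = ⊥) :
    ∃ E : CN.EvenTI G, E.H = (S : Subgroup G) := by
  haveI : Fact (Nat.Prime 2) := ⟨Nat.prime_two⟩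
  have hS2 : 2 ∣ Nat.card (S : Subgroup G) := S.dvd_card_of_dvd_card h2
  have hcent : ∀ x ∈ (S : Subgroup G), x ≠ 1 →
      Subgroup.centralizer ({x} : Set G) ≤ (S : Subgroup G) := by
    intro x hx hx1
    obtain ⟨k, hk⟩ := S.2 ⟨x, hx⟩
    have hd : orderOf x ∣ 2 ^ k := orderOf_dvd_of_pow_eq_one (congrArg Subtype.val hk)
    obtain ⟨j, -, hj⟩ := (Nat.dvd_prime_pow Nat.prime_two).1 hd
    have hj0 : j ≠ 0 := by
      rintro rfl
      exact hx1 (orderOf_eq_one_iff.1 (by simpa using hj))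
    set z := x ^ (orderOf x / 2) with hz
    have hz2 : orderOf z = 2 := orderOf_pow_orderOf_div (orderOf_pos x).ne' (hj ▸ dvd_pow_self 2 hj0)
    have hzS : z ∈ (S : Subgroup G) := Subgroup.pow_mem _ hx _
    obtain ⟨T, hT⟩ := (hG z hz2).exists_le_sylow
    have hzT : z ∈ (T : Subgroup G) := hT (Subgroup.mem_centralizer_singleton_iff.2 rfl)
    rw [sylow_eq_of_inf_ne hTI hO hzS hzT (Involution.ne_one hz2)]
    exact fun y hy => hT (Subgroup.mem_centralizer_singleton_iff.2
      ((show Commute y x from Subgroup.mem_centralizer_singleton_iff.1 hy).pow_right _).eq)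
  refine ⟨⟨(S : Subgroup G), hcent, fun g x hx hx1 hgx => ?_, S.card_coprime_index, hS2, fun hn => ?_, hodd⟩, rfl⟩
  · rw [Subgroup.mem_normalizer_iff_map_conj_eq]
    have hgS : g * x * g⁻¹ ∈ ((g • S : Sylow 2 G) : Subgroup G) := by
      rw [Sylow.coe_subgroup_smul]
      exact ⟨x, hx, rfl⟩
    have h := sylow_eq_of_inf_ne hTI hO hgx hgS (fun e => hx1 (conj_eq_one_iff.1 e))
    rw [Sylow.coe_subgroup_smul] at h
    exact h.symm
  · have := Cores.le_pCore hn S.2
    rw [hO, le_bot_iff] at this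
    rw [this, Subgroup.card_bot] at hS2
    omega

/-- With an odd normal subgroup commuting involutions are equal. -/
theorem eq_of_commute_involutions (hG : IsCIT G) {M : Subgroup G} (hM : M.Normal)
    (hodd : Odd (Nat.card M)) (hM1 : M ≠ ⊥) {u v : G} (hu : orderOf u = 2) (hv : orderOf v = 2)
    (huv : u * v = v * u) : u = v := by
  by_contra hne
  obtain ⟨m, hm, hm1⟩ : ∃ m ∈ M, m ≠ 1 := by
    obtain ⟨⟨m, hm⟩, hm1⟩ := M.ne_bot_iff_exists_ne_one.1 hM1
    exact ⟨m, hm, fun e => hm1 (Subtype.ext e)⟩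
  have hinv : ∀ w : G, orderOf w = 2 → ∀ x ∈ M, w * x * w⁻¹ = x⁻¹ := fun w hw =>
    (BSW.inverts_of_free M (Involution.mul_self hw) (fun x hx => hM.conj_mem x hx w)
      (fun x hx hc => hG.eq_one_of_commute hw (hodd.of_dvd_nat (Subgroup.orderOf_dvd_natCard M hx))
        hc.symm)).1
  have huv2 : orderOf (u * v) = 2 := Involution.orderOf_of_sq
    (by rw [(show Commute v u from huv.symm).mul_mul_mul_comm, Involution.mul_self hu, Involution.mul_self hv, mul_one])
    fun h => hne (by rw [eq_inv_of_mul_eq_one_left h, Involution.inv_eq hv])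
  have h : (u * v) * m * (u * v)⁻¹ = m := by
    calc (u * v) * m * (u * v)⁻¹ = u * (v * m * v⁻¹) * u⁻¹ := by group
      _ = m := by rw [hinv v hv m hm, hinv u hu _ (M.inv_mem hm), inv_inv]
  exact hm1 (hG.eq_one_of_commute huv2 (hodd.of_dvd_nat (Subgroup.orderOf_dvd_natCard M hm))
    (mul_inv_eq_iff_eq_mul.1 h).symm)

theorem card_ne_one (A : Type*) [Group A] [Finite A] : Nat.card {x : A // x ≠ 1} = Nat.card A - 1 := by
  classical
  have := Fintype.ofFinite A
  rw [Nat.card_eq_fintype_card, Nat.card_eq_fintype_card, Fintype.card_subtype_compl, Fintype.card_subtype_eq]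

/-- The orbit of a nontrivial element of a normal 2-subgroup is large. -/
theorem index_sylow_le (hG : IsCIT G) (W : Subgroup G) [W.Normal] (hW : IsPGroup 2 W) (hW1 : W ≠ ⊥)
    (S : Sylow 2 G) : (S : Subgroup G).index ≤ Nat.card W - 1 := by
  classical
  obtain ⟨w, hw, hw1⟩ : ∃ w ∈ W, w ≠ 1 := by
    obtain ⟨⟨w, hw⟩, hw1⟩ := W.ne_bot_iff_exists_ne_one.1 hW1
    exact ⟨w, hw, fun e => hw1 (Subtype.ext e)⟩
  set C := Subgroup.centralizer ({w} : Set G) with hC
  have hC2 : IsPGroup 2 C := by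
    refine isPGroup_two_of_no_odd (A := C) fun r hr h2 a ha => ?_
    have ha' : orderOf (a : G) = r := by rw [Subgroup.orderOf_coe, ha]
    have := hG.fpf hW hw hw1 (ha' ▸ hr.odd_of_ne_two h2) (Subgroup.mem_centralizer_singleton_iff.1 a.2)
    rw [this, orderOf_one] at ha'
    exact hr.one_lt.ne ha'
  obtain ⟨T, hT⟩ := hC2.exists_le_sylow
  have h1 : (S : Subgroup G).index ≤ C.index := by
    rw [show (S : Subgroup G).index = (T : Subgroup G).index from Nat.eq_of_mul_eq_mul_left
      (Nat.card_pos (α := (S : Subgroup G))) (by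
        rw [Subgroup.card_mul_index, Sylow.card_eq_multiplicity S, ← Sylow.card_eq_multiplicity T,
          Subgroup.card_mul_index])]
    exact Nat.le_of_dvd (Nat.pos_of_ne_zero Subgroup.index_ne_zero_of_finite) (Subgroup.index_dvd_of_le hT)
  refine h1.trans ?_
  rw [Subgroup.index_eq_card, ← card_ne_one]
  refine Nat.card_le_card_of_injective (fun c : G ⧸ C => Quotient.liftOn' c
    (fun g => (⟨⟨g * w * g⁻¹, (inferInstance : W.Normal).conj_mem w hw g⟩,
      fun e => hw1 (conj_eq_one_iff.1 (congrArg Subtype.val e))⟩ : {x : W // x ≠ 1})) ?_) ?_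
  · intro a b hab
    rw [QuotientGroup.leftRel_apply, hC, Subgroup.mem_centralizer_singleton_iff] at hab
    refine Subtype.ext (Subtype.ext ?_)
    show a * w * a⁻¹ = b * w * b⁻¹
    calc a * w * a⁻¹ = a * (w * (a⁻¹ * b)) * b⁻¹ := by group
      _ = a * (a⁻¹ * b * w) * b⁻¹ := by rw [← hab]
      _ = b * w * b⁻¹ := by group
  · intro x y
    refine Quotient.inductionOn₂' x y fun a b hab => ?_
    have e : a * w * a⁻¹ = b * w * b⁻¹ := congrArg (fun z : {x : W // x ≠ 1} => ((z.1 : W) : G)) hab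
    refine QuotientGroup.eq.2 ?_
    rw [hC, Subgroup.mem_centralizer_singleton_iff]
    calc a⁻¹ * b * w = a⁻¹ * (b * w * b⁻¹) * b := by group
      _ = w * (a⁻¹ * b) := by rw [← e]; group

/-- An offender forces a natural module. -/
theorem natural_of_offender (hG : IsCIT G) (hO : pCore 2 G ≠ ⊥) (hTI : TIMod G) (S : Sylow 2 G)
    (hSQ : (S : Subgroup G) ≠ pCore 2 G) {A : Subgroup G} (hAS : A ≤ S)
    (hA : ∀ a ∈ A, a * a = 1) (hAQ : ¬ A ≤ pCore 2 G)
    (hoff : Nat.card (omegaZ (pCore 2 G)) * Nat.card ↥(A ⊓ pCore 2 G) ≤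
      Nat.card A * Nat.card ↥(omegaZ (pCore 2 G) ⊓ Subgroup.centralizer (A : Set G))) :
    ∃ q, Natural (pCore 2 G) (S : Subgroup G) q := by
  classical
  haveI : Fact (Nat.Prime 2) := ⟨Nat.prime_two⟩
  set Q := pCore 2 G with hQdef
  have hQ : IsPGroup 2 Q := Cores.isPGroup_pCore 2 G
  have hQS : Q ≤ (S : Subgroup G) := Cores.pCore_le_sylow S
  set W := omegaZ Q with hW
  have hWQ : W ≤ Q := omegaZ_le Q
  have hW2 : IsPGroup 2 W := hQ.to_le hWQ
  have hW1 : W ≠ ⊥ := omegaZ_ne_bot hQ hO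
  have hWn : W.Normal := by
    rw [← Subgroup.normalizer_eq_top_iff, eq_top_iff]
    refine le_trans ?_ (normalizer_le_omegaZ Q)
    rw [Subgroup.normalizer_eq_top]
  have hQc : ∀ x ∈ Q, ∀ w ∈ W, x * w = w * x := fun x hx w hw => omegaZ_comm hw hx
  have hAc : ∀ a ∈ A, ∀ b ∈ A, a * b = b * a := fun a ha b hb => by
    have h := hA _ (A.mul_mem ha hb)
    calc a * b = (a * b) * ((a * b) * (a * b))⁻¹ := by rw [h, inv_one, mul_one]
      _ = b⁻¹ * a⁻¹ := by group
      _ = b * a := by rw [inv_eq_of_mul_eq_one_right (hA b hb), inv_eq_of_mul_eq_one_right (hA a ha)]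
  -- fixed points of one element
  have hhalf : ∀ a ∈ A, a ∉ Q →
      Nat.card W = Nat.card ↥(W ⊓ Subgroup.centralizer ({a} : Set G)) ^ 2 := by
    intro a ha haQ
    obtain ⟨x, hx, hxa, y, hy1, hyodd, hinv⟩ := hG.exists_lift hO haQ (by rw [hA a ha]; exact one_mem _)
    have htop : ∀ g : G, g ∈ Subgroup.normalizer (W : Set G) := fun g => by
      rw [Subgroup.normalizer_eq_top]; trivial
    have e : W ⊓ Subgroup.centralizer ({x * a} : Set G) = W ⊓ Subgroup.centralizer ({a} : Set G) := by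
      ext w
      simp only [Subgroup.mem_inf, Subgroup.mem_centralizer_singleton_iff]
      refine and_congr_right fun hw => ?_
      have hc : Commute w x := (hQc x hx w hw).symm
      constructor
      · intro h
        have := hc.inv_right.mul_right (show Commute w (x * a) from h)
        rwa [inv_mul_cancel_left] at this
      · exact fun h => hc.mul_right h
    exact e ▸ (fix_half hG hW2 hxa hy1 hyodd hinv (htop y) (htop _) fun w hw => omegaZ_sq hw).1
  set f := QuotientGroup.mk' Q with hf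
  have hker : f.ker = Q := QuotientGroup.ker_mk' Q
  let Sb : Sylow 2 (G ⧸ Q) := S.mapSurjective (QuotientGroup.mk'_surjective Q)
  have hSb : (Sb : Subgroup (G ⧸ Q)) = (S : Subgroup G).map f := Sylow.coe_mapSurjective _ S
  have hcardS : Nat.card (Sb : Subgroup (G ⧸ Q)) * Nat.card Q = Nat.card (S : Subgroup G) := by
    have := Cores.card_map_mul_ker f (S : Subgroup G) (by rw [hker]; exact hQS)
    rwa [← hSb, hker] at this
  have hindex : (Sb : Subgroup (G ⧸ Q)).index = (S : Subgroup G).index := by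
    rw [hSb, Subgroup.index_map_eq _ (QuotientGroup.mk'_surjective Q) (by rw [hker]; exact hQS)]
  have hGb : IsCIT (G ⧸ Q) := hG.quotient Q hQ
  have hOb : pCore 2 (G ⧸ Q) = ⊥ := Cores.pCore_quotient_self 2 G
  have hTIb : TIMod (G ⧸ Q) := by
    intro P P' hne
    obtain ⟨P, rfl⟩ := Sylow.mapSurjective_surjective (QuotientGroup.mk'_surjective Q) 2 P
    obtain ⟨P', rfl⟩ := Sylow.mapSurjective_surjective (QuotientGroup.mk'_surjective Q) 2 P'
    rw [Sylow.coe_mapSurjective, Sylow.coe_mapSurjective] at hne ⊢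
    have hne' : (P : Subgroup G) ≠ P' := fun e => hne (e ▸ rfl)
    rw [hOb, eq_bot_iff]
    rintro _ ⟨⟨a, ha, rfl⟩, b, hb, hab⟩
    rw [Subgroup.mem_bot]
    have hba : b⁻¹ * a ∈ Q := by
      rw [← QuotientGroup.eq_one_iff]
      change f (b⁻¹ * a) = 1
      rw [map_mul, map_inv, hab, inv_mul_cancel]
    have haP' : a ∈ (P' : Subgroup G) := by
      have := Subgroup.mul_mem _ hb (Cores.pCore_le_sylow P' hba)
      rwa [mul_inv_cancel_left] at this
    have : a ∈ (P : Subgroup G) ⊓ P' := ⟨ha, haP'⟩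
    rw [hTI P P' hne'] at this
    exact (QuotientGroup.eq_one_iff a).2 this
  set Ab := A.map f with hAb
  have hAbS : Ab ≤ (Sb : Subgroup (G ⧸ Q)) := by rw [hSb]; exact Subgroup.map_mono hAS
  have hAbinv : ∀ x ∈ Ab, x ≠ 1 → orderOf x = 2 := by
    rintro _ ⟨a, ha, rfl⟩ h
    exact Involution.orderOf_of_sq (by rw [← map_mul, hA a ha, map_one]) h
  have hAcard : Nat.card Ab * Nat.card ↥(A ⊓ Q) = Nat.card A := by
    have h1 := Cores.card_map_mul_ker (f.comp A.subtype) ⊤ le_top
    rw [← MonoidHom.range_eq_map, MonoidHom.range_comp, Subgroup.range_subtype, Subgroup.card_top] at h1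
    rw [← h1]
    congr 1
    refine (Nat.card_congr ?_).symm
    exact
      { toFun := fun a => ⟨(a.1 : G), a.1.2, by
          have := MonoidHom.mem_ker.1 a.2
          exact (QuotientGroup.eq_one_iff _).1 this⟩
        invFun := fun a => ⟨⟨a.1, a.2.1⟩, MonoidHom.mem_ker.2 ((QuotientGroup.eq_one_iff _).2 a.2.2)⟩
        left_inv := fun a => rfl
        right_inv := fun a => rfl }
  have hAb2 : 2 ≤ Nat.card Ab := by
    rw [Nat.succ_le_iff, Finite.one_lt_card_iff_nontrivial, Subgroup.nontrivial_iff_exists_ne_one]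
    obtain ⟨a, ha, haQ⟩ := SetLike.not_le_iff_exists.1 hAQ
    exact ⟨f a, ⟨a, ha, rfl⟩, fun h => haQ ((QuotientGroup.eq_one_iff a).1 h)⟩
  set CA := W ⊓ Subgroup.centralizer (A : Set G) with hCA
  have hoff' : Nat.card W ≤ Nat.card Ab * Nat.card CA := by
    refine Nat.le_of_mul_le_mul_right ?_ (Nat.card_pos (α := ↥(A ⊓ Q)))
    calc Nat.card W * Nat.card ↥(A ⊓ Q) ≤ Nat.card A * Nat.card CA := hoff
      _ = Nat.card Ab * Nat.card CA * Nat.card ↥(A ⊓ Q) := by rw [← hAcard]; ring
  have hCle : ∀ a ∈ A, CA ≤ W ⊓ Subgroup.centralizer ({a} : Set G) := fun a ha =>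
    inf_le_inf_left _ (Subgroup.centralizer_le (Set.singleton_subset_iff.2 ha))
  obtain ⟨a₀, ha₀, ha₀Q⟩ := SetLike.not_le_iff_exists.1 hAQ
  set r := Nat.card ↥(W ⊓ Subgroup.centralizer ({a₀} : Set G)) with hr
  have hWr : Nat.card W = r ^ 2 := hhalf a₀ ha₀ ha₀Q
  have hCAr : Nat.card CA ≤ r := Subgroup.card_le_of_le (hCle a₀ ha₀)
  have hrpos : 0 < r := Nat.card_pos
  have hrA : r ≤ Nat.card Ab := by
    refine Nat.le_of_mul_le_mul_right ?_ hrpos
    rw [← pow_two, ← hWr]
    exact hoff'.trans (Nat.mul_le_mul_left _ hCAr)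
  have hr2 : 2 ≤ r := by
    by_contra h
    have h1 : r = 1 := by omega
    rw [h1, one_pow] at hWr
    exact hW1 (Subgroup.eq_bot_of_card_eq W hWr)
  have hidx : (Sb : Subgroup (G ⧸ Q)).index ≤ r ^ 2 - 1 := by
    rw [hindex, ← hWr]; exact index_sylow_le hG W hW2 hW1 S
  have h2b : 2 ∣ Nat.card (G ⧸ Q) := by
    obtain ⟨a, ha, h⟩ := (Subgroup.nontrivial_iff_exists_ne_one _).1
      (Finite.one_lt_card_iff_nontrivial.1 (Nat.lt_of_lt_of_le one_lt_two hAb2))
    rw [← hAbinv a ha h]
    exact orderOf_dvd_natCard a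
  -- the Sylow 2-subgroup and the order of the quotient
  obtain ⟨n, hn1, hSq, hGq⟩ : ∃ n, 1 ≤ n ∧ Nat.card (Sb : Subgroup (G ⧸ Q)) = 2 ^ n ∧ r = 2 ^ n ∧
      Nat.card Ab = 2 ^ n ∧ Nat.card (G ⧸ Q) = (2 ^ n + 1) * 2 ^ n * (2 ^ n - 1) := by
    by_cases hoddN : ∀ M : Subgroup (G ⧸ Q), M.Normal → Odd (Nat.card M) → M = ⊥
    · obtain ⟨E, hE⟩ := exists_evenTI hGb hTIb hOb Sb h2b hoddN
      -- the involutions of the Sylow subgroup are central
      set Z := omegaZ (Sb : Subgroup (G ⧸ Q)) with hZ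
      have hZ1 : Z ≠ ⊥ := omegaZ_ne_bot Sb.2 fun h => by
        have h2 := E.even
        rw [hE, h, Subgroup.card_bot] at h2
        omega
      obtain ⟨⟨z, hz⟩, hz1⟩ := Z.ne_bot_iff_exists_ne_one.1 hZ1
      have hz2 : orderOf z = 2 := Involution.orderOf_of_sq (omegaZ_sq hz) fun e => hz1 (Subtype.ext e)
      have hN : E.N = Subgroup.normalizer ((Sb : Subgroup (G ⧸ Q)) : Set (G ⧸ Q)) := by
        show Subgroup.normalizer (E.H : Set (G ⧸ Q)) = _
        rw [hE]
      have hinvZ : ∀ t : G ⧸ Q, orderOf t = 2 ∧ t ∈ E.N ↔ t ∈ Z ∧ t ≠ 1 := by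
        intro t
        constructor
        · rintro ⟨ht, htN⟩
          obtain ⟨g, hg, hgt⟩ := Involution.exists_conj_in E.se hz2
            (E.H_le_N (hE.ge (omegaZ_le _ hz))) ht htN
          exact ⟨hgt ▸ conj_mem_omegaZ (hN ▸ hg) hz, Involution.ne_one ht⟩
        · rintro ⟨ht, ht1⟩
          exact ⟨Involution.orderOf_of_sq (omegaZ_sq ht) ht1, E.H_le_N (hE.ge (omegaZ_le _ ht))⟩
      have hk : E.k + 1 = Nat.card Z := by
        unfold CN.EvenTI.k
        let e : {t : G ⧸ Q // t ∈ Z ∧ t ≠ 1} ≃ {x : Z // x ≠ 1} :=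
          { toFun := fun t => ⟨⟨t.1, t.2.1⟩, fun h => t.2.2 (congrArg Subtype.val h)⟩
            invFun := fun x => ⟨x.1.1, x.1.2, fun h => x.2 (Subtype.ext h)⟩
            left_inv := fun t => rfl
            right_inv := fun x => rfl }
        rw [Nat.card_congr (Equiv.subtypeEquivRight hinvZ), Nat.card_congr e, card_ne_one]
        have := Nat.card_pos (α := Z)
        omega
      have hAZ : Ab ≤ Z := fun x hx => by
        rcases eq_or_ne x 1 with rfl | h
        · exact Z.one_mem
        · exact ((hinvZ x).1 ⟨hAbinv x hx h, E.H_le_N (hE.ge (hAbS hx))⟩).1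
      have hAk : Nat.card Ab ≤ Nat.card Z := Subgroup.card_le_of_le hAZ
      have hZS : Nat.card Z ≤ Nat.card E.H := Subgroup.card_le_of_le (hE.ge.trans' (omegaZ_le _))
      have hG' := E.card_G
      have hI : E.H.index = (Nat.card E.H + 1) * E.k := by
        have h := E.H.card_mul_index
        rw [hG'] at h
        exact Nat.eq_of_mul_eq_mul_left Nat.card_pos (h.trans (by ring))
      rw [← hE, hI] at hidx
      have h3 : (Nat.card Z + 1) * E.k ≤ (Nat.card E.H + 1) * E.k := Nat.mul_le_mul_right _ (by omega)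
      have h4 : r ≤ Nat.card Z := hrA.trans hAk
      have hsq : Nat.card Z ^ 2 = (Nat.card Z + 1) * E.k + 1 := by rw [← hk]; ring
      have hrpos2 : 1 ≤ r ^ 2 := Nat.one_le_pow _ _ hrpos
      have h5 : Nat.card Z ≤ r := by
        by_contra hlt
        push Not at hlt
        have hp : r ^ 2 < Nat.card Z ^ 2 := Nat.pow_lt_pow_left hlt two_ne_zero
        generalize Nat.card Z ^ 2 = Z2 at hp hsq
        generalize (Nat.card Z + 1) * E.k = p1 at hsq h3
        generalize (Nat.card E.H + 1) * E.k = p2 at h3 hidx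
        omega
      have hrZ : r = Nat.card Z := le_antisymm h4 h5
      have h6 : (Nat.card E.H + 1) * E.k = (Nat.card Z + 1) * E.k := by
        rw [hrZ, hsq] at hidx
        generalize (Nat.card Z + 1) * E.k = p1 at h3 hidx ⊢
        generalize (Nat.card E.H + 1) * E.k = p2 at h3 hidx ⊢
        omega
      have hHZ : Nat.card E.H = Nat.card Z := by
        have := Nat.eq_of_mul_eq_mul_right (by have := E.two_le_k; omega) h6
        omega
      obtain ⟨n, hn⟩ := IsPGroup.iff_card.1 (Sb.2.to_le (omegaZ_le (Sb : Subgroup (G ⧸ Q))))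
      rw [← hZ] at hn
      refine ⟨n, ?_, ?_, ?_, ?_, ?_⟩
      · rcases n with _ | n
        · rw [pow_zero] at hn; have := E.two_le_k; omega
        · omega
      · rw [← hE, hHZ, hn]
      · rw [hrZ, hn]
      · rw [← hn]; omega
      · rw [hG', hHZ, ← hn, show E.k = Nat.card Z - 1 by omega]; ring
    · push Not at hoddN
      obtain ⟨M, hMn, hModd, hM1⟩ := hoddN
      have hAb : Nat.card Ab = 2 := by
        refine le_antisymm ?_ hAb2
        obtain ⟨a, ha, h⟩ := (Subgroup.nontrivial_iff_exists_ne_one _).1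
          (Finite.one_lt_card_iff_nontrivial.1 (Nat.lt_of_lt_of_le one_lt_two hAb2))
        rw [← SetLike.coe_sort_coe, Nat.card_coe_set_eq]
        calc Set.ncard (Ab : Set (G ⧸ Q)) ≤ Set.ncard ({1, a} : Set (G ⧸ Q)) :=
              Set.ncard_le_ncard (fun x hx => by
                rcases eq_or_ne x 1 with rfl | h1
                · exact Or.inl rfl
                · refine Or.inr (eq_of_commute_involutions hGb hMn hModd hM1 (hAbinv x hx h1) (hAbinv a ha h) ?_)
                  obtain ⟨x', hx', rfl⟩ := hx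
                  obtain ⟨a', ha', rfl⟩ := ha
                  rw [← map_mul, hAc x' hx' a' ha', map_mul]) (Set.toFinite _)
          _ = 2 := Set.ncard_pair (Ne.symm h)
      have hr : r = 2 := by omega
      rw [hr] at hidx
      have hne1 : (Sb : Subgroup (G ⧸ Q)).index ≠ 1 := fun h => hSQ (by
        rw [hindex, Subgroup.index_eq_one] at h
        refine le_antisymm (Cores.le_pCore (h ▸ inferInstance) S.2) hQS)
      have hindexle : (Sb : Subgroup (G ⧸ Q)).index = 3 := by
        have h0 := Sb.not_dvd_index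
        have : (Sb : Subgroup (G ⧸ Q)).index ≤ 3 := by simpa using hidx
        have h2 : (Sb : Subgroup (G ⧸ Q)).index ≠ 0 := Subgroup.index_ne_zero_of_finite
        omega
      -- the quotient acts faithfully on the three involutions
      have hfaith : Nat.card (G ⧸ Q) ≤ 6 := by
        let X := {w : W // w ≠ 1}
        let act : G →* Equiv.Perm X :=
          { toFun := fun g =>
              { toFun := fun w => ⟨⟨g * w.1 * g⁻¹, hWn.conj_mem _ w.1.2 g⟩, fun e => w.2 (Subtype.ext
                  (conj_eq_one_iff.1 (congrArg Subtype.val e)))⟩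
                invFun := fun w => ⟨⟨g⁻¹ * w.1 * g, hWn.conj_mem' _ w.1.2 g⟩, fun e => w.2 (Subtype.ext (by
                  have h : g⁻¹ * ((w.1 : W) : G) * g = 1 := congrArg Subtype.val e
                  calc ((w.1 : W) : G) = g * (g⁻¹ * ((w.1 : W) : G) * g) * g⁻¹ := by group
                    _ = 1 := by rw [h, mul_one, mul_inv_cancel]))⟩
                left_inv := fun w => Subtype.ext (Subtype.ext (by show g⁻¹ * (g * _ * g⁻¹) * g = _; group))
                right_inv := fun w => Subtype.ext (Subtype.ext (by show g * (g⁻¹ * _ * g) * g⁻¹ = _; group)) }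
            map_one' := Equiv.ext fun w => Subtype.ext (Subtype.ext (by show 1 * _ * (1 : G)⁻¹ = _; group; rfl))
            map_mul' := fun g g' => Equiv.ext fun w => Subtype.ext (Subtype.ext (by
              show g * g' * _ * (g * g')⁻¹ = g * (g' * _ * g'⁻¹) * g⁻¹; group)) }
        have hkle : act.ker ≤ Q := by
          have hle : act.ker ≤ Subgroup.centralizer (W : Set G) := fun g hg => by
            refine Subgroup.mem_centralizer_iff.2 fun w hw => ?_
            rcases eq_or_ne w 1 with rfl | h1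
            · rw [one_mul, mul_one]
            · have := congrArg (fun σ : Equiv.Perm X => (((σ ⟨⟨w, hw⟩, fun e => h1 (congrArg Subtype.val e)⟩).1 : W) : G))
                (MonoidHom.mem_ker.1 hg)
              exact (mul_inv_eq_iff_eq_mul.1 this).symm
          exact Cores.le_pCore (MonoidHom.normal_ker act) ((hG.centralizer_le hW2 hW1).to_le hle)
        calc Nat.card (G ⧸ Q) = Q.index := (Subgroup.index_eq_card Q).symm
          _ ≤ act.ker.index := Nat.le_of_dvd (Nat.pos_of_ne_zero Subgroup.index_ne_zero_of_finite)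
              (Subgroup.index_dvd_of_le hkle)
          _ = Nat.card act.range := Subgroup.index_ker act
          _ ≤ Nat.card (Equiv.Perm X) := Subgroup.card_le_card_group _
          _ = 6 := by
            rw [Nat.card_perm]
            have hX : Nat.card X = 3 := by
              show Nat.card {w : W // w ≠ 1} = 3
              rw [card_ne_one, hWr, hr]
              norm_num
            rw [hX]; rfl
      have hSb2 : 2 ≤ Nat.card (Sb : Subgroup (G ⧸ Q)) := hAb2.trans (Subgroup.card_le_of_le hAbS)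
      have hmul := (Sb : Subgroup (G ⧸ Q)).card_mul_index
      rw [hindexle] at hmul
      refine ⟨1, le_rfl, ?_, ?_, ?_, ?_⟩
      · rw [pow_one]; omega
      · rw [pow_one, hr]
      · rw [pow_one, hAb]
      · rw [pow_one]; omega
  obtain ⟨hrq, hAq, hGcard⟩ := hGq
  -- the whole Sylow subgroup is `A Q`
  have hAeq : Ab = (Sb : Subgroup (G ⧸ Q)) := Subgroup.eq_of_le_of_card_ge hAbS (by rw [hSq, hAq])
  have hdec : ∀ a ∈ (S : Subgroup G), ∃ b ∈ A, ∃ x ∈ Q, a = b * x := by
    intro a ha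
    have : f a ∈ Ab := by rw [hAeq, hSb]; exact ⟨a, ha, rfl⟩
    obtain ⟨b, hb, hfb⟩ := this
    refine ⟨b, hb, b⁻¹ * a, ?_, by group⟩
    rw [← QuotientGroup.eq_one_iff]
    change f (b⁻¹ * a) = 1
    rw [map_mul, map_inv, hfb, inv_mul_cancel]
  have hCS : ∀ w ∈ CA, w ∈ Subgroup.centralizer ((S : Subgroup G) : Set G) := by
    intro w hw
    refine Subgroup.mem_centralizer_iff.2 fun a ha => ?_
    obtain ⟨b, hb, x, hx, rfl⟩ := hdec a ha
    exact ((show Commute b w from Subgroup.mem_centralizer_iff.1 hw.2 b hb).mul_left (hQc x hx w hw.1)).eq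
  have hCAq : Nat.card CA = 2 ^ n := by
    refine le_antisymm (hrq ▸ hCAr) ?_
    rw [hWr, hrq, hAq, pow_two] at hoff'
    exact Nat.le_of_mul_le_mul_left hoff' (Nat.two_pow_pos n)
  have hCeq : W ⊓ Subgroup.centralizer ((S : Subgroup G) : Set G) = CA :=
    le_antisymm (inf_le_inf_left _ (Subgroup.centralizer_le hAS)) fun w hw => ⟨hw.1, hCS w hw⟩
  refine ⟨2 ^ n, ⟨n, hn1, rfl⟩, ?_, by rw [← hW, hWr, hrq], by rw [← hW, hCeq, hCAq], ?_, ?_, ?_, ?_⟩
  · have h := Subgroup.card_mul_index (Q.subgroupOf (S : Subgroup G))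
    rw [Cores.card_subgroupOf hQS, ← hcardS, hSq, mul_comm (2 ^ n)] at h
    exact Nat.eq_of_mul_eq_mul_left Nat.card_pos h
  · intro a ha haQ w hw hc
    obtain ⟨b, hb, x, hx, rfl⟩ := hdec a ha
    have hbQ : b ∉ Q := fun h => haQ (Q.mul_mem h hx)
    have hwb : w ∈ W ⊓ Subgroup.centralizer ({b} : Set G) := by
      refine ⟨hw, Subgroup.mem_centralizer_singleton_iff.2 ?_⟩
      have h1 := (show Commute (b * x) w from hc).mul_left (show Commute x w from hQc x hx w hw).inv_left
      rw [mul_inv_cancel_right] at h1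
      exact h1.symm.eq
    have heq : W ⊓ Subgroup.centralizer ({b} : Set G) = CA := by
      refine (Subgroup.eq_of_le_of_card_ge (hCle b hb) (le_of_eq ?_)).symm
      have h1 := hhalf b hb hbQ
      rw [hWr, hrq] at h1
      rw [hCAq]
      exact (Nat.pow_left_injective two_ne_zero h1).symm
    exact hCS w (heq ▸ hwb)
  · intro a ha
    obtain ⟨b, hb, x, hx, rfl⟩ := hdec a ha
    rw [← QuotientGroup.eq_one_iff]
    change f (b * x * (b * x)) = 1
    rw [map_mul, map_mul, QuotientGroup.mk'_apply Q x, (QuotientGroup.eq_one_iff x).2 hx, mul_one, ← map_mul,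
      hA b hb, map_one]
  · intro a ha c hc
    obtain ⟨b, hb, x, hx, rfl⟩ := hdec a ha
    obtain ⟨d, hd, y, hy, rfl⟩ := hdec c hc
    rw [← QuotientGroup.eq_one_iff]
    change f (b * x * (d * y) * (b * x)⁻¹ * (d * y)⁻¹) = 1
    have hfQ : ∀ z ∈ Q, f z = 1 := fun z hz => (QuotientGroup.eq_one_iff z).2 hz
    simp only [map_mul, map_inv, hfQ x hx, hfQ y hy, mul_one]
    rw [← map_mul, hAc b hb d hd, map_mul]
    group
  · rw [Subgroup.normalizer_eq_top, Subgroup.card_top, Q.card_eq_card_quotient_mul_card_subgroup,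
      hGcard, mul_comm]

end Cfsg.Agent.CIT
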