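/-
Two 2-locals of a CIT group with a common Sylow 2-subgroup, one of them with a natural module.

* `Rad D T`       : `D = O₂(N(D))`, `T` Sylow in `N(D)`, Sylow 2-subgroups of `N(D)` meet in `D`
* `NatRad D T q`  : with a natural module, class at most two and an offender
* `Rad.pair`      : two different such subgroups are elementary abelian of order `q²` meeting in the
  fixed points of `T`, which has order `q³`
-/
import Cfsg.Agent.Lib.CIT.Natural

set_option autoImplicit false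

open Cfsg
open scoped Pointwise

namespace Cfsg.Agent.CIT

variable {G : Type*} [Group G]

/-- An elementary abelian 2-group inside `T` of maximal order. -/
def IsMaxElem (A T : Subgroup G) : Prop :=
  A ≤ T ∧ (∀ a ∈ A, a * a = 1) ∧ ∀ B : Subgroup G, B ≤ T → (∀ b ∈ B, b * b = 1) → Nat.card B ≤ Nat.card A

/-- `D` is the 2-core of its normaliser, whose Sylow 2-subgroup is `T`; two Sylow 2-subgroups meet in `D`. -/
structure Rad (D T : Subgroup G) : Prop where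
  two : IsPGroup 2 D
  ne : D ≠ ⊥
  le : D ≤ T
  T_le : T ≤ Subgroup.normalizer (D : Set G)
  T_two : IsPGroup 2 T
  T_max : ∀ P : Subgroup G, P ≤ Subgroup.normalizer (D : Set G) → IsPGroup 2 P → T ≤ P → P = T
  core : ∀ M : Subgroup G, M ≤ Subgroup.normalizer (D : Set G) → IsPGroup 2 M →
    Subgroup.normalizer (D : Set G) ≤ Subgroup.normalizer (M : Set G) → M ≤ D
  not_normal : ¬ Subgroup.normalizer (D : Set G) ≤ Subgroup.normalizer (T : Set G)
  ti : ∀ g ∈ Subgroup.normalizer (D : Set G), T.map (MulAut.conj g).toMonoidHom ≠ T →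
    T ⊓ T.map (MulAut.conj g).toMonoidHom = D

/-- A natural module with an offender; the 2-core has class at most two. -/
structure NatRad (D T : Subgroup G) (q : ℕ) : Prop where
  nat : Natural D T q
  class_two : ∀ a ∈ D, ∀ b ∈ D, ∀ c ∈ D, c * (a * b * a⁻¹ * b⁻¹) = (a * b * a⁻¹ * b⁻¹) * c
  off : ∃ A : Subgroup G, IsMaxElem A T ∧ ¬ A ≤ D

theorem mem_map_conj {H : Subgroup G} {g x : G} :
    x ∈ H.map (MulAut.conj g).toMonoidHom ↔ g⁻¹ * x * g ∈ H := by
  rw [Subgroup.mem_map_equiv]; simp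

theorem mem_centralizer' {T : Subgroup G} {x : G} :
    x ∈ Subgroup.centralizer (T : Set G) ↔ ∀ t ∈ T, t * x = x * t := Subgroup.mem_centralizer_iff

variable [Finite G]

namespace Rad

variable {D T : Subgroup G} (R : Rad D T) (hG : IsCIT G)
include R

theorem T_ne : T ≠ D := fun h => R.not_normal (h ▸ le_rfl)

theorem D_le_N : D ≤ Subgroup.normalizer (D : Set G) := Subgroup.le_normalizer

include hG in
theorem centralizer_le : Subgroup.centralizer (D : Set G) ≤ D :=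
  R.core _ (Subgroup.centralizer_le_normalizer _) (hG.centralizer_le R.two R.ne) (by
    intro g hg
    refine Subgroup.mem_normalizer_iff.2 fun x => ?_
    rw [Subgroup.mem_centralizer_iff, Subgroup.mem_centralizer_iff]
    constructor
    · intro h d hd
      have := h _ ((Subgroup.mem_normalizer_iff''.1 hg d).1 hd)
      calc d * (g * x * g⁻¹) = g * ((g⁻¹ * d * g) * x) * g⁻¹ := by group
        _ = g * x * g⁻¹ * d := by rw [this]; group
    · intro h d hd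
      have := h _ ((Subgroup.mem_normalizer_iff.1 hg d).1 hd)
      calc d * x = g⁻¹ * ((g * d * g⁻¹) * (g * x * g⁻¹)) * g := by group
        _ = x * d := by rw [this]; group)

include hG in
theorem mem_omegaZ {x : G} (h2 : x * x = 1) (hc : ∀ d ∈ D, d * x = x * d) : x ∈ omegaZ D :=
  ⟨R.centralizer_le hG (mem_centralizer'.2 hc), h2, hc⟩

include hG in
theorem mem_of_centralizes {x : G} (hx : x ∈ T) (h : ∀ w ∈ omegaZ D, x * w = w * x) : x ∈ D := by
  set K := Subgroup.normalizer (D : Set G) ⊓ Subgroup.centralizer (omegaZ D : Set G) with hK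
  refine R.core K inf_le_left ((hG.centralizer_le (R.two.to_le (omegaZ_le D))
    (omegaZ_ne_bot R.two R.ne)).to_le inf_le_right) ?_ ⟨R.T_le hx, mem_centralizer'.2 fun w hw => (h w hw).symm⟩
  intro g hg
  refine Subgroup.mem_normalizer_iff.2 fun y => ?_
  simp only [hK, Subgroup.mem_inf, mem_centralizer']
  constructor
  · rintro ⟨hy, hc⟩
    refine ⟨(Subgroup.normalizer _).mul_mem (Subgroup.mul_mem _ hg hy) (Subgroup.inv_mem _ hg), fun w hw => ?_⟩
    have := hc _ (conj_mem_omegaZ (Subgroup.inv_mem _ hg) hw)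
    rw [inv_inv] at this
    calc w * (g * y * g⁻¹) = g * ((g⁻¹ * w * g) * y) * g⁻¹ := by group
      _ = g * y * g⁻¹ * w := by rw [this]; group
  · rintro ⟨hy, hc⟩
    refine ⟨?_, fun w hw => ?_⟩
    · have := Subgroup.mul_mem _ (Subgroup.mul_mem _ (Subgroup.inv_mem _ hg) hy) hg
      rwa [show g⁻¹ * (g * y * g⁻¹) * g = y by group] at this
    · have := hc _ (conj_mem_omegaZ hg hw)
      calc w * y = g⁻¹ * ((g * w * g⁻¹) * (g * y * g⁻¹)) * g := by group
        _ = y * w := by rw [this]; group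

theorem exists_inverted {u : G} (hu : u ∈ Subgroup.normalizer (D : Set G)) (huD : u ∉ D) (hu2 : u * u = 1) :
    orderOf u = 2 ∧ ∃ y ∈ Subgroup.normalizer (D : Set G), y ≠ 1 ∧ Odd (orderOf y) ∧ u * y * u⁻¹ = y⁻¹ := by
  have ho : orderOf u = 2 := Involution.orderOf_of_sq hu2 fun h => huD (h ▸ D.one_mem)
  refine ⟨ho, ?_⟩
  set N := Subgroup.normalizer (D : Set G) with hN
  obtain ⟨y, hy1, hyo, hinv⟩ := Involution.exists_inverted_odd
    (t := (⟨u, hu⟩ : N)) (by rw [← Subgroup.orderOf_coe]; exact ho) fun M hM hM2 hmem => by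
      refine huD (R.core (M.map N.subtype) (Subgroup.map_subtype_le _) (hM2.map _) ?_ ⟨_, hmem, rfl⟩)
      intro g hg
      refine Subgroup.mem_normalizer_fintype ?_
      rintro _ ⟨m, hm, rfl⟩
      exact ⟨_, hM.conj_mem m hm ⟨g, hg⟩, rfl⟩
  exact ⟨y, y.2, fun h => hy1 (Subtype.ext h), by rwa [Subgroup.orderOf_coe], congrArg Subtype.val hinv⟩

theorem exists_not_normalizing :
    ∃ g ∈ Subgroup.normalizer (D : Set G), T.map (MulAut.conj g).toMonoidHom ≠ T := by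
  by_contra h
  push Not at h
  exact R.not_normal fun g hg => Subgroup.mem_normalizer_iff_map_conj_eq.2 (h g hg)

theorem map_le_N {g : G} (hg : g ∈ Subgroup.normalizer (D : Set G)) :
    T.map (MulAut.conj g).toMonoidHom ≤ Subgroup.normalizer (D : Set G) := by
  rintro _ ⟨t, ht, rfl⟩
  exact Subgroup.mul_mem _ (Subgroup.mul_mem _ hg (R.T_le ht)) (Subgroup.inv_mem _ hg)

/-- A 2-subgroup of the normaliser containing a conjugate of `T` equals it. -/
theorem eq_map {g : G} (hg : g ∈ Subgroup.normalizer (D : Set G)) {P : Subgroup G}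
    (hPN : P ≤ Subgroup.normalizer (D : Set G)) (hP : IsPGroup 2 P)
    (hle : T.map (MulAut.conj g).toMonoidHom ≤ P) : P = T.map (MulAut.conj g).toMonoidHom := by
  have h := R.T_max (P.map (MulAut.conj g⁻¹).toMonoidHom) (by
    rintro _ ⟨p, hp, rfl⟩
    exact Subgroup.mul_mem _ (Subgroup.mul_mem _ (Subgroup.inv_mem _ hg) (hPN hp)) (Subgroup.inv_mem _ (Subgroup.inv_mem _ hg)))
    (hP.map _) (fun t ht => by
      rw [mem_map_conj, inv_inv]
      exact hle ⟨t, ht, rfl⟩)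
  refine (Subgroup.eq_of_le_of_card_ge hle (le_of_eq ?_)).symm
  have h1 := congrArg (fun K : Subgroup G => Nat.card K) h
  simp only [Subgroup.card_map_of_injective (f := (MulAut.conj g⁻¹).toMonoidHom) (MulAut.conj g⁻¹).injective] at h1
  rw [h1, Subgroup.card_map_of_injective (f := (MulAut.conj g).toMonoidHom) (MulAut.conj g).injective]

include hG in
/-- Nothing nontrivial is centralised by two Sylow 2-subgroups of the normaliser. -/
theorem eq_one_of_centralized {g : G} (hg : g ∈ Subgroup.normalizer (D : Set G))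
    (hne : T.map (MulAut.conj g).toMonoidHom ≠ T) {v : G} (hv : v * v = 1)
    (h1 : ∀ t ∈ T, t * v = v * t) (h2 : ∀ t ∈ T.map (MulAut.conj g).toMonoidHom, t * v = v * t) :
    v = 1 := by
  by_contra hv1
  have hle : T ⊔ T.map (MulAut.conj g).toMonoidHom ≤ Subgroup.centralizer ({v} : Set G) :=
    sup_le (fun t ht => Subgroup.mem_centralizer_singleton_iff.2 (h1 t ht))
      (fun t ht => Subgroup.mem_centralizer_singleton_iff.2 (h2 t ht))
  have h := R.T_max _ (sup_le R.T_le (R.map_le_N hg))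
    ((hG v (Involution.orderOf_of_sq hv hv1)).to_le hle) le_sup_left
  refine hne (Subgroup.eq_of_le_of_card_ge (le_sup_right.trans h.le) (le_of_eq ?_))
  rw [Subgroup.card_map_of_injective (f := (MulAut.conj g).toMonoidHom) (MulAut.conj g).injective]

end Rad

section Pair

variable {D₁ D₂ T : Subgroup G} {q : ℕ} (hG : IsCIT G) (R₁ : Rad D₁ T) (R₂ : Rad D₂ T) (N₂ : NatRad D₂ T q)
include hG R₁ R₂ N₂

theorem eq_of_le (h : D₂ ≤ D₁) : D₁ = D₂ := by
  refine le_antisymm ?_ h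
  have hW : ∀ v ∈ omegaZ D₁, v ∈ omegaZ D₂ := fun v hv =>
    R₂.mem_omegaZ hG (omegaZ_sq hv) fun d hd => omegaZ_comm hv (h hd)
  by_cases hC : ∀ v ∈ omegaZ D₁, v ∈ Subgroup.centralizer (T : Set G)
  · exact absurd (le_antisymm (fun t ht => R₁.mem_of_centralizes hG ht fun w hw =>
      mem_centralizer'.1 (hC w hw) t ht) R₁.le) R₁.T_ne
  · push Not at hC
    obtain ⟨v, hv, hvT⟩ := hC
    intro d hd
    by_contra hd2
    exact hvT (N₂.nat.fix d (R₁.le hd) hd2 v (hW v hv) (omegaZ_comm hv hd))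

theorem C₂_le : omegaZ D₂ ⊓ Subgroup.centralizer (T : Set G) ≤ omegaZ D₁ := fun c hc =>
  R₁.mem_omegaZ hG (omegaZ_sq hc.1) fun d hd => mem_centralizer'.1 hc.2 d (R₁.le hd)

/-- The case `W₂ ≰ D₁`. -/
theorem elementary_of_not_le (hd : (∃ q₁, NatRad D₁ T q₁) ∨ ∀ A, IsMaxElem A T → A ≤ D₁)
    (hW : ¬ omegaZ D₂ ≤ D₁) :
    D₁ = omegaZ D₁ ∧ NatRad D₁ T q ∧ ¬ omegaZ D₁ ≤ D₂ ∧
      omegaZ D₂ ⊓ D₁ = omegaZ D₂ ⊓ Subgroup.centralizer (T : Set G) := by
  classical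
  obtain ⟨w, hw, hwD⟩ := SetLike.not_le_iff_exists.1 hW
  have hwT : w ∈ T := R₂.le (omegaZ_le D₂ hw)
  have hW1 : ¬ omegaZ D₁ ≤ D₂ := fun h => hwD (R₁.mem_of_centralizes hG hwT fun v hv =>
    ((omegaZ_comm hw (h hv)).symm : w * v = v * w))
  obtain ⟨v, hv, hvD⟩ := SetLike.not_le_iff_exists.1 hW1
  have hvT : v ∈ T := R₁.le (omegaZ_le D₁ hv)
  have hinf : omegaZ D₂ ⊓ D₁ ≤ omegaZ D₂ ⊓ Subgroup.centralizer (T : Set G) := fun x hx =>
    ⟨hx.1, N₂.nat.fix v hvT hvD x hx.1 (omegaZ_comm hv hx.2).symm⟩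
  have hC2 := C₂_le hG R₁ R₂ N₂
  have hinf_eq : omegaZ D₂ ⊓ D₁ = omegaZ D₂ ⊓ Subgroup.centralizer (T : Set G) :=
    le_antisymm hinf fun x hx => ⟨hx.1, omegaZ_le D₁ (hC2 hx)⟩
  obtain ⟨hwo, y, hyN, hy1, hyo, hyinv⟩ := R₁.exists_inverted (R₁.T_le hwT) hwD (omegaZ_sq hw)
  -- the order of `D₁`
  set F := D₁ ⊓ Subgroup.centralizer ({w} : Set G) with hF
  have hFsq : Nat.card F ^ 2 ≤ Nat.card D₁ := card_fix_sq_le hG R₁.two hwo hy1 hyo hyinv hyN
  have hwN : ∀ d ∈ D₁, d * w * d⁻¹ * w⁻¹ ∈ omegaZ D₂ ⊓ D₁ := fun d hd => by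
    refine ⟨(omegaZ D₂).mul_mem (conj_mem_omegaZ (R₂.T_le (R₁.le hd)) hw) ((omegaZ D₂).inv_mem hw), ?_⟩
    rw [show d * w * d⁻¹ * w⁻¹ = d * (w * d⁻¹ * w⁻¹) by group]
    exact D₁.mul_mem hd ((Subgroup.mem_normalizer_iff.1 (R₁.T_le hwT) _).1 (D₁.inv_mem hd))
  have hidx : (F.subgroupOf D₁).index ≤ q := by
    rw [← N₂.nat.card_fix, ← hinf_eq, Subgroup.index_eq_card]
    refine Nat.card_le_card_of_injective (fun c : D₁ ⧸ F.subgroupOf D₁ => Quotient.liftOn' c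
      (fun d => (⟨(d : G) * w * (d : G)⁻¹ * w⁻¹, hwN d d.2⟩ : ↥(omegaZ D₂ ⊓ D₁))) ?_) ?_
    · intro a b hab
      rw [QuotientGroup.leftRel_apply, Subgroup.mem_subgroupOf] at hab
      have hab' := Subgroup.mem_centralizer_singleton_iff.1 hab.2
      rw [Subgroup.coe_mul, Subgroup.coe_inv] at hab'
      refine Subtype.ext ?_
      show (a : G) * w * (a : G)⁻¹ * w⁻¹ = (b : G) * w * (b : G)⁻¹ * w⁻¹
      congr 1
      calc (a : G) * w * (a : G)⁻¹ = (a : G) * (w * ((a : G)⁻¹ * b)) * (b : G)⁻¹ := by group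
        _ = (a : G) * ((a : G)⁻¹ * b * w) * (b : G)⁻¹ := by rw [← hab']
        _ = (b : G) * w * (b : G)⁻¹ := by group
    · intro x z
      refine Quotient.inductionOn₂' x z fun a b hab => ?_
      have e : (a : G) * w * (a : G)⁻¹ * w⁻¹ = (b : G) * w * (b : G)⁻¹ * w⁻¹ :=
        congrArg (fun c : ↥(omegaZ D₂ ⊓ D₁) => (c : G)) hab
      have e' := mul_right_cancel e
      refine QuotientGroup.eq.2 (Subgroup.mem_subgroupOf.2 ⟨(a⁻¹ * b).2, Subgroup.mem_centralizer_singleton_iff.2 ?_⟩)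
      rw [Subgroup.coe_mul, Subgroup.coe_inv]
      calc (a : G)⁻¹ * b * w = (a : G)⁻¹ * ((b : G) * w * (b : G)⁻¹) * b := by group
        _ = w * ((a : G)⁻¹ * b) := by rw [← e']; group
  have hD1 : Nat.card D₁ ≤ q ^ 2 := by
    have h1 := Subgroup.card_mul_index (F.subgroupOf D₁)
    rw [Cores.card_subgroupOf (inf_le_left : F ≤ D₁)] at h1
    have h2 : Nat.card F ≤ (F.subgroupOf D₁).index := by
      refine Nat.le_of_mul_le_mul_left (a := Nat.card F) ?_ (Nat.card_pos (α := F))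
      rw [h1, ← pow_two]; exact hFsq
    rw [← h1, pow_two]
    exact Nat.mul_le_mul (h2.trans hidx) hidx
  -- `W₁` is everything
  have hW1card : q ^ 2 ≤ Nat.card (omegaZ D₁) := by
    have hN1 : ∀ g ∈ Subgroup.normalizer (D₁ : Set G), g ∈ Subgroup.normalizer (omegaZ D₁ : Set G) :=
      fun g hg => normalizer_le_omegaZ D₁ hg
    rw [(fix_half hG (R₁.two.to_le (omegaZ_le D₁)) hwo hy1 hyo hyinv (hN1 y hyN) (hN1 w (R₁.T_le hwT))
      fun d hd => omegaZ_sq hd).1]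
    refine Nat.pow_le_pow_left ?_ 2
    rw [← N₂.nat.card_fix]
    exact Subgroup.card_le_of_le fun c hc => ⟨hC2 hc, Subgroup.mem_centralizer_singleton_iff.2
      (mem_centralizer'.1 hc.2 w hwT).symm⟩
  have hDeq : D₁ = omegaZ D₁ :=
    (Subgroup.eq_of_le_of_card_ge (omegaZ_le D₁) (hD1.trans hW1card)).symm
  have hDq : Nat.card D₁ = q ^ 2 := le_antisymm hD1 (by rw [hDeq]; exact hW1card)
  refine ⟨hDeq, ?_, hW1, hinf_eq⟩
  rcases hd with ⟨q₁, N₁⟩ | hall
  · have h := N₁.nat.card_W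
    rw [← hDeq, hDq] at h
    exact (Nat.pow_left_injective two_ne_zero h) ▸ N₁
  · exfalso
    obtain ⟨A, hA, hAD⟩ := N₂.off
    have hW2el : ∀ b ∈ omegaZ D₂, b * b = 1 := fun b hb => omegaZ_sq hb
    have hW2T : omegaZ D₂ ≤ T := (omegaZ_le D₂).trans R₂.le
    have hA1 := hall A hA
    refine hW (hall _ ⟨hW2T, hW2el, fun B hB hBe => (hA.2.2 B hB hBe).trans ?_⟩)
    rw [N₂.nat.card_W, ← hDq]
    exact Subgroup.card_le_of_le hA1

/-- The case `W₂ ≤ D₁` is impossible. -/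
theorem not_omega_le (hd : (∃ q₁, NatRad D₁ T q₁) ∨ ∀ A, IsMaxElem A T → A ≤ D₁) (hne : D₁ ≠ D₂) :
    ¬ omegaZ D₂ ≤ D₁ := by
  intro hW
  have h21 : ¬ D₂ ≤ D₁ := fun h => hne (eq_of_le hG R₁ R₂ N₂ h)
  have h12 : ¬ D₁ ≤ D₂ := by
    intro h
    rcases hd with ⟨q₁, N₁⟩ | hall
    · exact hne (eq_of_le hG R₂ R₁ N₁ h).symm
    · obtain ⟨A, hA, hAD⟩ := N₂.off
      exact hAD ((hall A hA).trans h)
  obtain ⟨n, hn, hqn⟩ := N₂.nat.q_pow
  set C := omegaZ D₂ ⊓ Subgroup.centralizer (T : Set G) with hC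
  obtain ⟨w, hw, hwC⟩ : ∃ w ∈ omegaZ D₂, w ∉ C := by
    by_contra hcon
    push Not at hcon
    have := Subgroup.card_le_of_le (show omegaZ D₂ ≤ C from hcon)
    rw [N₂.nat.card_W, N₂.nat.card_fix, hqn] at this
    have h2 : 2 ≤ 2 ^ n := le_self_pow₀ one_le_two (by omega)
    nlinarith
  have hCw : ∀ t ∈ T, t * w = w * t → t ∈ D₂ := fun t ht hc => by_contra fun htD =>
    hwC ⟨hw, N₂.nat.fix t ht htD w hw hc⟩
  have hcomm : ∀ d ∈ T, ∀ v ∈ omegaZ D₂, d * v * d⁻¹ * v⁻¹ ∈ C := by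
    intro d hd v hv
    by_cases hdD : d ∈ D₂
    · rw [omegaZ_comm hv hdD, mul_inv_cancel_right, mul_inv_cancel]; exact C.one_mem
    have hcW : d * v * d⁻¹ * v⁻¹ ∈ omegaZ D₂ :=
      (omegaZ D₂).mul_mem (conj_mem_omegaZ (R₂.T_le hd) hv) ((omegaZ D₂).inv_mem hv)
    refine ⟨hcW, N₂.nat.fix d hd hdD _ hcW ?_⟩
    have hvi : v⁻¹ = v := inv_eq_of_mul_eq_one_right (omegaZ_sq hv)
    have hci : (d * v * d⁻¹ * v⁻¹)⁻¹ = d * v * d⁻¹ * v⁻¹ := inv_eq_of_mul_eq_one_right (omegaZ_sq hcW)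
    have h2 := omegaZ_comm hv (N₂.nat.sq d hd)
    calc d * (d * v * d⁻¹ * v⁻¹) = (d * d * v) * (d * d)⁻¹ * (d * v⁻¹ * d⁻¹) * d := by group
      _ = v * (d * v⁻¹ * d⁻¹) * d := by rw [h2, mul_inv_cancel_right]
      _ = (d * v * d⁻¹ * v⁻¹)⁻¹ * d := by group
      _ = d * v * d⁻¹ * v⁻¹ * d := by rw [hci]
  set F := D₁ ⊓ D₂ with hF
  have hnormal : ∀ g ∈ Subgroup.normalizer (D₁ : Set G), T.map (MulAut.conj g).toMonoidHom ≠ T →
      g ∈ Subgroup.normalizer (F : Set G) := by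
    intro g hg hgT
    have hgi : g⁻¹ ∈ Subgroup.normalizer (D₁ : Set G) := Subgroup.inv_mem _ hg
    have hd1 : ∀ x ∈ D₁, g * x * g⁻¹ ∈ D₁ := fun x hx => (Subgroup.mem_normalizer_iff.1 hg x).1 hx
    have hd1' : ∀ x ∈ D₁, g⁻¹ * x * g ∈ D₁ := fun x hx => (Subgroup.mem_normalizer_iff''.1 hg x).1 hx
    have hone : ∀ v : G, v ∈ C → g⁻¹ * v * g ∈ C → v = 1 := fun v hv hv' =>
      R₁.eq_one_of_centralized hG hg hgT (omegaZ_sq hv.1) (mem_centralizer'.1 hv.2) fun t ht => by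
        have := mem_centralizer'.1 hv'.2 _ (mem_map_conj.1 ht)
        calc t * v = g * ((g⁻¹ * t * g) * (g⁻¹ * v * g)) * g⁻¹ := by group
          _ = v * t := by rw [this]; group
    have hWg : ∀ v ∈ omegaZ D₂, g * v * g⁻¹ ∈ D₂ := by
      intro v hv
      have hv1 : g * v * g⁻¹ ∈ D₁ := hd1 v (hW hv)
      refine hCw _ (R₁.le hv1) ?_
      have ha : g * v * g⁻¹ * w * (g * v * g⁻¹)⁻¹ * w⁻¹ = 1 := by
        refine hone _ (hcomm _ (R₁.le hv1) w hw) ?_
        have h := C.inv_mem (hcomm _ (R₁.le (hd1' w (hW hw))) v hv)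
        have e : (g⁻¹ * w * g * v * (g⁻¹ * w * g)⁻¹ * v⁻¹)⁻¹ =
            g⁻¹ * (g * v * g⁻¹ * w * (g * v * g⁻¹)⁻¹ * w⁻¹) * g := by group
        rwa [e] at h
      rw [mul_inv_eq_one, mul_inv_eq_iff_eq_mul] at ha
      exact ha
    have hFc : ∀ f ∈ F, ∀ v ∈ omegaZ D₂, f * (g * v * g⁻¹) = g * v * g⁻¹ * f := by
      intro f hf v hv
      by_contra hne'
      set c := f * (g * v * g⁻¹) * f⁻¹ * (g * v * g⁻¹)⁻¹ with hc
      have hc1 : c ≠ 1 := fun h => hne' (by rw [hc, mul_inv_eq_one, mul_inv_eq_iff_eq_mul] at h; exact h)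
      have hcC : g⁻¹ * c * g ∈ C := by
        have := hcomm _ (R₁.le (hd1' f hf.1)) v hv
        rw [show g⁻¹ * f * g * v * (g⁻¹ * f * g)⁻¹ * v⁻¹ = g⁻¹ * c * g by rw [hc]; group] at this
        exact this
      have hc2 : c * c = 1 := by
        have h := omegaZ_sq hcC.1
        calc c * c = g * ((g⁻¹ * c * g) * (g⁻¹ * c * g)) * g⁻¹ := by group
          _ = 1 := by rw [h, mul_one, mul_inv_cancel]
      have hcT : ∀ t ∈ T.map (MulAut.conj g).toMonoidHom, t * c = c * t := fun t ht => by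
        have := mem_centralizer'.1 hcC.2 _ (mem_map_conj.1 ht)
        calc t * c = g * ((g⁻¹ * t * g) * (g⁻¹ * c * g)) * g⁻¹ := by group
          _ = c * t := by rw [this]; group
      have hcD : ∀ d ∈ D₂, d * c = c * d := fun d hd => N₂.class_two f hf.2 _ (hWg v hv) d hd
      have hle : T.map (MulAut.conj g).toMonoidHom ⊔ D₂ ≤ Subgroup.centralizer ({c} : Set G) :=
        sup_le (fun t ht => Subgroup.mem_centralizer_singleton_iff.2 (hcT t ht))
          (fun d hd => Subgroup.mem_centralizer_singleton_iff.2 (hcD d hd))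
      have hP := R₁.eq_map hg (sup_le (R₁.map_le_N hg) (R₂.le.trans R₁.T_le))
        ((hG c (Involution.orderOf_of_sq hc2 hc1)).to_le hle) le_sup_left
      refine h21 ?_
      rw [← R₁.ti g hg hgT]
      exact le_inf R₂.le (hP ▸ le_sup_right)
    refine inv_mem_iff.1 (Subgroup.mem_normalizer_fintype fun f hf => ⟨?_, ?_⟩)
    · rw [inv_inv]; exact hd1' f hf.1
    · rw [inv_inv]
      refine hCw _ (R₁.le (hd1' f hf.1)) ?_
      have := hFc f hf w hw
      calc g⁻¹ * f * g * w = g⁻¹ * (f * (g * w * g⁻¹)) * g := by group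
        _ = w * (g⁻¹ * f * g) := by rw [this]; group
  -- so `F` is normal in `N(D₁)`
  have hFn : Subgroup.normalizer (D₁ : Set G) ≤ Subgroup.normalizer (F : Set G) := by
    obtain ⟨g₀, hg₀, hg₀T⟩ := R₁.exists_not_normalizing
    intro h hh
    by_cases hhT : T.map (MulAut.conj h).toMonoidHom = T
    · have hhg : T.map (MulAut.conj (h * g₀)).toMonoidHom ≠ T := fun e => hg₀T (by
        refine Subgroup.mem_normalizer_iff_map_conj_eq.1 ((Subgroup.mul_mem_cancel_left _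
          (Subgroup.mem_normalizer_iff_map_conj_eq.2 hhT)).1 (Subgroup.mem_normalizer_iff_map_conj_eq.2 e)))
      exact (Subgroup.mul_mem_cancel_right _ (hnormal g₀ hg₀ hg₀T)).1
        (hnormal _ (Subgroup.mul_mem _ hh hg₀) hhg)
    · exact hnormal h hh hhT
  let K : Subgroup G :=
    { carrier := {h | h ∈ Subgroup.normalizer (D₁ : Set G) ∧ ∀ d ∈ D₁, h * d * h⁻¹ * d⁻¹ ∈ F}
      one_mem' := ⟨one_mem _, fun d _ => by simp⟩
      mul_mem' := fun {a b} ha hb => ⟨Subgroup.mul_mem _ ha.1 hb.1, fun d hd => by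
        have h1 := ha.2 _ ((Subgroup.mem_normalizer_iff.1 hb.1 d).1 hd)
        rw [show a * b * d * (a * b)⁻¹ * d⁻¹ =
          (a * (b * d * b⁻¹) * a⁻¹ * (b * d * b⁻¹)⁻¹) * (b * d * b⁻¹ * d⁻¹) by group]
        exact F.mul_mem h1 (hb.2 d hd)⟩
      inv_mem' := fun {a} ha => ⟨Subgroup.inv_mem _ ha.1, fun d hd => by
        have h1 := F.inv_mem (ha.2 _ ((Subgroup.mem_normalizer_iff''.1 ha.1 d).1 hd))
        rwa [show (a * (a⁻¹ * d * a) * a⁻¹ * (a⁻¹ * d * a)⁻¹)⁻¹ = a⁻¹ * d * a⁻¹⁻¹ * d⁻¹ by group] at h1⟩ }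
  have hTK : T ≤ K := fun t ht => ⟨R₁.T_le ht, fun d hd =>
    ⟨D₁.mul_mem ((Subgroup.mem_normalizer_iff.1 (R₁.T_le ht) d).1 hd) (D₁.inv_mem hd),
      N₂.nat.comm t ht d (R₁.le hd)⟩⟩
  have hK : ¬ IsPGroup 2 K := fun h => R₁.T_ne (le_antisymm (hTK.trans (R₁.core K (fun x hx => hx.1) h
    fun g hg => Subgroup.mem_normalizer_fintype fun k hk => ⟨Subgroup.mul_mem _ (Subgroup.mul_mem _ hg hk.1)
      (Subgroup.inv_mem _ hg), fun d hd => by
        have h1 := (Subgroup.mem_normalizer_iff.1 (hFn hg) _).1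
          (hk.2 _ ((Subgroup.mem_normalizer_iff''.1 hg d).1 hd))
        rwa [show g * (k * (g⁻¹ * d * g) * k⁻¹ * (g⁻¹ * d * g)⁻¹) * g⁻¹ =
          g * k * g⁻¹ * d * (g * k * g⁻¹)⁻¹ * d⁻¹ by group] at h1⟩)) R₁.le)
  obtain ⟨y, hy, r, hr, hr2, hyr⟩ := exists_odd_prime_of_not_two hK
  haveI := Fact.mk hr
  refine h12 fun d hd => ?_
  obtain ⟨f, hf, hfc⟩ := Signalizer.exists_fixed_in_coset
    (IsPGroup.of_card (n := 1) (by rw [Nat.card_zpowers, hyr, pow_one]) : IsPGroup r (Subgroup.zpowers y))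
    (Subgroup.zpowers_le.2 (hFn hy.1)) (fun hdvd => by
      obtain ⟨j, hj⟩ := IsPGroup.iff_card.1 (R₁.two.to_le (inf_le_left : F ≤ D₁))
      rw [hj] at hdvd
      exact hr2 ((Nat.prime_dvd_prime_iff_eq hr Nat.prime_two).1 (hr.dvd_of_dvd_pow hdvd))) d
    fun a ha => (Subgroup.zpowers_le.2 hy ha).2 d hd
  have hfd : f * d = 1 := hG.fpf' R₁.two (D₁.mul_mem hf.1 hd)
    (fun h => by rw [h, orderOf_one] at hyr; exact hr.one_lt.ne hyr) (hyr ▸ hr.odd_of_ne_two hr2)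
    (Subgroup.mem_centralizer_iff.1 hfc y (Subgroup.mem_zpowers y))
  rw [eq_inv_of_mul_eq_one_right hfd]
  exact D₂.inv_mem hf.2

/-- Two different radical subgroups, one natural: both are elementary of order `q²`. -/
theorem pair (hd : (∃ q₁, NatRad D₁ T q₁) ∨ ∀ A, IsMaxElem A T → A ≤ D₁) (hne : D₁ ≠ D₂) :
    D₁ = omegaZ D₁ ∧ D₂ = omegaZ D₂ ∧ NatRad D₁ T q ∧
      D₁ ⊓ D₂ = omegaZ D₂ ⊓ Subgroup.centralizer (T : Set G) ∧ Nat.card T = q ^ 3 := by
  have hW := not_omega_le hG R₁ R₂ N₂ hd hne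
  obtain ⟨e1, N₁, hW1, hinf⟩ := elementary_of_not_le hG R₁ R₂ N₂ hd hW
  obtain ⟨e2, -, -, -⟩ := elementary_of_not_le hG R₂ R₁ N₁ (Or.inl ⟨q, N₂⟩) hW1
  refine ⟨e1, e2, N₁, ?_, ?_⟩
  · conv_lhs => rw [inf_comm]
    rw [← e2] at hinf ⊢
    exact hinf
  · have h := Subgroup.card_mul_index (D₁.subgroupOf T)
    rw [Cores.card_subgroupOf R₁.le] at h
    rw [← h, show (D₁.subgroupOf T).index = q from N₁.nat.relIndex, e1, N₁.nat.card_W]
    ring

end Pair

end Cfsg.Agent.CIT
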