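/-
Radical 2-subgroups of CIT groups all of whose proper subgroups with nontrivial 2-core satisfy `TIMod`.

* `Hyp`             : the induction hypothesis
* `Rad.of`          : the constructor
* `class_two`       : a 2-subgroup normalised by an element of order 3 has class at most two
* `Rad.natRad_or`   : a natural module, or the elementary abelian subgroups of maximal order lie in `D`
* `Rad.map_conj`    : conjugates
* `Rad.sylow_of_all`: in the second case `T` is a Sylow 2-subgroup and `N(D) = N(Jmax T)`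
-/
import Cfsg.Agent.Lib.CIT.Pair
import Cfsg.Agent.Lib.FPFLie.Main

set_option autoImplicit false

open Cfsg
open scoped Pointwise commutatorElement

namespace Cfsg.Agent.CIT

variable {G : Type*} [Group G]

/-- Proper subgroups with nontrivial 2-core satisfy `TIMod`. -/
def Hyp (G : Type*) [Group G] : Prop :=
  ∀ H : Subgroup G, H ≠ ⊤ → pCore 2 H ≠ ⊥ → TIMod H

/-- The subgroup generated by the elementary abelian subgroups of maximal order. -/
def Jmax (T : Subgroup G) : Subgroup G := sSup {A | IsMaxElem A T}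

theorem omegaZ_subgroupOf {D N : Subgroup G} (h : D ≤ N) :
    omegaZ (D.subgroupOf N) = (omegaZ D).subgroupOf N := by
  ext x
  constructor
  · rintro ⟨hx, h2, hc⟩
    refine ⟨hx, congrArg Subtype.val h2, fun d hd => ?_⟩
    exact congrArg Subtype.val (hc ⟨d, h hd⟩ hd)
  · rintro ⟨hx, h2, hc⟩
    exact ⟨hx, Subtype.ext h2, fun d hd => Subtype.ext (hc d hd)⟩

theorem inf_subgroupOf' (H K L : Subgroup G) :
    (H ⊓ K).subgroupOf L = H.subgroupOf L ⊓ K.subgroupOf L :=
  Subgroup.comap_inf H K L.subtype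

theorem subgroupOf_inf_centralizer {A T N : Subgroup G} (hT : T ≤ N) :
    A.subgroupOf N ⊓ Subgroup.centralizer (T.subgroupOf N : Set N) =
      (A ⊓ Subgroup.centralizer (T : Set G)).subgroupOf N := by
  ext x
  simp only [Subgroup.mem_inf, Subgroup.mem_subgroupOf, Subgroup.mem_centralizer_iff, SetLike.mem_coe]
  refine and_congr_right fun _ => ⟨fun h t ht => congrArg Subtype.val (h ⟨t, hT ht⟩ ht),
    fun h t ht => Subtype.ext (h t ht)⟩

theorem subgroupOf_map_conj {T N : Subgroup G} {g : G} (hg : g ∈ N) :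
    (T.subgroupOf N).map (MulAut.conj (⟨g, hg⟩ : N)).toMonoidHom =
      (T.map (MulAut.conj g).toMonoidHom).subgroupOf N := by
  ext x
  rw [mem_map_conj, Subgroup.mem_subgroupOf, Subgroup.mem_subgroupOf, mem_map_conj]
  rfl

theorem map_conj_map_conj (H : Subgroup G) (x : G) :
    (H.map (MulAut.conj x).toMonoidHom).map (MulAut.conj x⁻¹).toMonoidHom = H := by
  ext z
  rw [mem_map_conj, mem_map_conj, inv_inv]
  rw [show x⁻¹ * (x * z * x⁻¹) * x = z by group]

theorem mem_normalizer_map_conj {D : Subgroup G} {x g : G} :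
    g ∈ Subgroup.normalizer ((D.map (MulAut.conj x).toMonoidHom : Subgroup G) : Set G) ↔
      x⁻¹ * g * x ∈ Subgroup.normalizer (D : Set G) := by
  rw [← Subgroup.map_equiv_normalizer_eq, mem_map_conj]

variable [Finite G]

/-- A 2-subgroup lies in one which is maximal in the given subgroup. -/
theorem exists_max_two {N K : Subgroup G} (hKN : K ≤ N) (hK : IsPGroup 2 K) :
    ∃ P : Subgroup G, K ≤ P ∧ P ≤ N ∧ IsPGroup 2 P ∧
      ∀ R : Subgroup G, R ≤ N → IsPGroup 2 R → P ≤ R → R = P := by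
  classical
  obtain ⟨P, ⟨hKP, hPN, hP⟩, hmax⟩ := Set.Finite.exists_maximalFor (fun P : Subgroup G => Nat.card P)
    {P : Subgroup G | K ≤ P ∧ P ≤ N ∧ IsPGroup 2 P} (Set.toFinite _) ⟨K, le_rfl, hKN, hK⟩
  exact ⟨P, hKP, hPN, hP, fun R hRN hR hle => (Subgroup.eq_of_le_of_card_ge hle
    (hmax (j := R) ⟨hKP.trans hle, hRN, hR⟩ (Subgroup.card_le_of_le hle))).symm⟩

/-- A 2-subgroup which is proper in a larger one grows inside it. -/
theorem exists_normalizing {P H : Subgroup G} (hP : IsPGroup 2 P) (hHP : H ≤ P) (hne : H ≠ P) :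
    ∃ x ∈ P, x ∉ H ∧ x ∈ Subgroup.normalizer (H : Set G) := by
  haveI : Fact (Nat.Prime 2) := ⟨Nat.prime_two⟩
  obtain ⟨x, hx, hxH⟩ := PGroup.exists_mem_normalizer_not_mem hP (H := H.subgroupOf P) fun h =>
    hne (le_antisymm hHP (Subgroup.subgroupOf_eq_top.1 h))
  refine ⟨x, x.2, hxH, Subgroup.mem_normalizer_fintype fun h hh => ?_⟩
  exact (Subgroup.mem_normalizer_iff.1 hx ⟨h, hHP hh⟩).1 hh

theorem normalizer_ne_top (hO : pCore 2 G = ⊥) {D : Subgroup G} (hD : IsPGroup 2 D) (hD1 : D ≠ ⊥) :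
    Subgroup.normalizer (D : Set G) ≠ ⊤ := fun h => hD1 (le_bot_iff.1 (hO ▸
  Cores.le_pCore (Subgroup.normalizer_eq_top_iff.1 h) hD))

theorem pCore_ne_bot_of_normalizes {D H : Subgroup G} (hD : IsPGroup 2 D) (hD1 : D ≠ ⊥) (hDH : D ≤ H)
    (hH : H ≤ Subgroup.normalizer (D : Set G)) : pCore 2 H ≠ ⊥ := fun h => hD1 (by
  have h1 := Cores.le_pCore (Cores.subgroupOf_normal_of_le_normalizer hH)
    (hD.comap_of_injective H.subtype H.subtype_injective)
  rw [h, le_bot_iff, Subgroup.subgroupOf_eq_bot] at h1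
  exact h1.eq_bot_of_le hDH)

theorem pCore_map_normalizer (N : Subgroup G) :
    N ≤ Subgroup.normalizer (((pCore 2 N).map N.subtype : Subgroup G) : Set G) := by
  intro g hg
  refine Subgroup.mem_normalizer_fintype ?_
  rintro _ ⟨m, hm, rfl⟩
  exact ⟨_, (inferInstance : (pCore 2 N).Normal).conj_mem m hm ⟨g, hg⟩, rfl⟩

section Aux

variable {D T : Subgroup G} (two : IsPGroup 2 D) (T_le : T ≤ Subgroup.normalizer (D : Set G))
  (T_two : IsPGroup 2 T)
  (T_max : ∀ P : Subgroup G, P ≤ Subgroup.normalizer (D : Set G) → IsPGroup 2 P → T ≤ P → P = T)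
  (core : ∀ M : Subgroup G, M ≤ Subgroup.normalizer (D : Set G) → IsPGroup 2 M →
    Subgroup.normalizer (D : Set G) ≤ Subgroup.normalizer (M : Set G) → M ≤ D)

include two core in
theorem pCore_eq_aux :
    pCore 2 (Subgroup.normalizer (D : Set G)) = D.subgroupOf (Subgroup.normalizer (D : Set G)) := by
  refine le_antisymm ?_ (Cores.le_pCore (Cores.subgroupOf_normal_of_le_normalizer le_rfl)
    (two.comap_of_injective _ (Subgroup.subtype_injective _)))
  intro x hx
  exact core _ (Subgroup.map_subtype_le _) ((Cores.isPGroup_pCore 2 _).map _) (pCore_map_normalizer _)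
    ⟨x, hx, rfl⟩

include T_le T_two T_max in
theorem exists_sylow_aux :
    ∃ S : Sylow 2 (Subgroup.normalizer (D : Set G)),
      (S : Subgroup (Subgroup.normalizer (D : Set G))) = T.subgroupOf (Subgroup.normalizer (D : Set G)) := by
  set N := Subgroup.normalizer (D : Set G) with hN
  refine ⟨{ toSubgroup := T.subgroupOf N
            isPGroup' := T_two.comap_of_injective _ (Subgroup.subtype_injective _)
            is_maximal' := fun {Q} hQ hle => ?_ }, rfl⟩
  have h : Q.map N.subtype = T := T_max _ (Subgroup.map_subtype_le _) (hQ.map _) fun t ht =>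
    ⟨⟨t, T_le ht⟩, hle (show (⟨t, T_le ht⟩ : N) ∈ T.subgroupOf N from ht), rfl⟩
  rw [Subgroup.subgroupOf, ← h, Subgroup.comap_map_eq_self_of_injective N.subtype_injective]

end Aux

theorem Rad.of (hyp : Hyp G) {D T : Subgroup G} (two : IsPGroup 2 D) (ne : D ≠ ⊥)
    (hN : Subgroup.normalizer (D : Set G) ≠ ⊤) (T_le : T ≤ Subgroup.normalizer (D : Set G))
    (T_two : IsPGroup 2 T)
    (T_max : ∀ P : Subgroup G, P ≤ Subgroup.normalizer (D : Set G) → IsPGroup 2 P → T ≤ P → P = T)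
    (core : ∀ M : Subgroup G, M ≤ Subgroup.normalizer (D : Set G) → IsPGroup 2 M →
      Subgroup.normalizer (D : Set G) ≤ Subgroup.normalizer (M : Set G) → M ≤ D)
    (not_normal : ¬ Subgroup.normalizer (D : Set G) ≤ Subgroup.normalizer (T : Set G)) : Rad D T := by
  have le : D ≤ T := by
    have h := T_max (T ⊔ D) (sup_le T_le Subgroup.le_normalizer)
      (T_two.to_sup_of_normal_right' two T_le) le_sup_left
    exact le_sup_right.trans h.le
  refine ⟨two, ne, le, T_le, T_two, T_max, core, not_normal, fun g hg hgT => ?_⟩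
  have hcore := pCore_eq_aux two core
  have hsyl := exists_sylow_aux T_le T_two T_max
  set N := Subgroup.normalizer (D : Set G) with hNdef
  obtain ⟨S, hS⟩ := hsyl
  have hti := hyp N hN (pCore_ne_bot_of_normalizes two ne Subgroup.le_normalizer le_rfl) S ((⟨g, hg⟩ : N) • S)
  rw [Sylow.coe_subgroup_smul, hS, hcore] at hti
  change (T.subgroupOf N ≠ (T.subgroupOf N).map (MulAut.conj (⟨g, hg⟩ : N)).toMonoidHom →
    T.subgroupOf N ⊓ (T.subgroupOf N).map (MulAut.conj (⟨g, hg⟩ : N)).toMonoidHom = D.subgroupOf N) at hti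
  rw [subgroupOf_map_conj hg] at hti
  have hgN : T.map (MulAut.conj g).toMonoidHom ≤ N := by
    rintro _ ⟨t, ht, rfl⟩
    exact N.mul_mem (N.mul_mem hg (T_le ht)) (N.inv_mem hg)
  specialize hti fun h => hgT (by
    rw [Subgroup.subgroupOf_inj, inf_eq_left.2 T_le, inf_eq_left.2 hgN] at h
    exact h.symm)
  rw [← inf_subgroupOf'] at hti
  rwa [Subgroup.subgroupOf_inj, inf_eq_left.2 (inf_le_left.trans T_le),
    inf_eq_left.2 Subgroup.le_normalizer] at hti

/-- A 2-subgroup normalised by an element of order 3 has class at most two. -/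
theorem class_two (hG : IsCIT G) {D : Subgroup G} (hD : IsPGroup 2 D) {y : G}
    (hy : y ∈ Subgroup.normalizer (D : Set G)) (hy3 : orderOf y = 3) :
    ∀ a ∈ D, ∀ b ∈ D, ∀ c ∈ D, c * (a * b * a⁻¹ * b⁻¹) = (a * b * a⁻¹ * b⁻¹) * c := by
  intro a ha b hb c hc
  haveI : Fact (Nat.Prime 2) := ⟨Nat.prime_two⟩
  haveI : Fact (Nat.Prime 3) := ⟨Nat.prime_three⟩
  rcases eq_or_ne a 1 with rfl | ha1
  · simp
  have hodd : Odd (orderOf y) := by rw [hy3]; decide
  have hy1 : y ≠ 1 := fun h => by rw [h, orderOf_one] at hy3; omega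
  set α : MulAut D := D.normalizerMonoidHom ⟨y, hy⟩ with hαdef
  have happ : ∀ d : D, ((α d : D) : G) = y * d * y⁻¹ := fun d => rfl
  have hfix : ∀ d : D, α d = d → d = 1 := fun d hd => by
    have h := congrArg Subtype.val hd
    rw [happ, mul_inv_eq_iff_eq_mul] at h
    exact Subtype.ext (hG.fpf' hD d.2 hy1 hodd h)
  have hα : orderOf α = 3 := by
    refine orderOf_eq_prime ?_ fun h => ha1 ?_
    · have e : (⟨y, hy⟩ : Subgroup.normalizer (D : Set G)) ^ 3 = 1 :=
        Subtype.ext (by rw [SubmonoidClass.coe_pow, OneMemClass.coe_one, ← hy3, pow_orderOf_eq_one])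
      rw [hαdef, ← map_pow, e, map_one]
    · exact congrArg Subtype.val (hfix ⟨a, ha⟩ (by rw [h]; rfl))
  haveI := hD.isNilpotent
  have h2 := (FPFLie.class_bound α hα hfix).2 rfl
  have hmem : ⁅⁅(⟨a, ha⟩ : D), (⟨b, hb⟩ : D)⁆, (⟨c, hc⟩ : D)⁆ ∈ FPFLie.lcs D 2 :=
    FPFLie.comm_mem (i := 1) (j := 0) (FPFLie.comm_mem (i := 0) (j := 0) (Subgroup.mem_top _)
      (Subgroup.mem_top _) le_rfl) (Subgroup.mem_top _) le_rfl
  rw [h2, Subgroup.mem_bot, commutatorElement_eq_one_iff_mul_comm] at hmem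
  exact (congrArg Subtype.val hmem).symm

theorem three_dvd (q : ℕ) : 3 ∣ (q + 1) * q * (q - 1) := by
  have h := Nat.mod_lt q (show 3 > 0 by norm_num)
  interval_cases hq : q % 3
  · exact (Dvd.dvd.mul_left (Nat.dvd_of_mod_eq_zero hq) _).mul_right _
  · exact Dvd.dvd.mul_left (show 3 ∣ q - 1 by omega) _
  · exact (Dvd.dvd.mul_right (show 3 ∣ q + 1 by omega) _).mul_right _

namespace Rad

variable {D T : Subgroup G} (R : Rad D T) (hG : IsCIT G) (hyp : Hyp G) (hO : pCore 2 G = ⊥)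
include R

theorem pCore_eq :
    pCore 2 (Subgroup.normalizer (D : Set G)) = D.subgroupOf (Subgroup.normalizer (D : Set G)) :=
  pCore_eq_aux R.two R.core

theorem exists_sylow :
    ∃ S : Sylow 2 (Subgroup.normalizer (D : Set G)),
      (S : Subgroup (Subgroup.normalizer (D : Set G))) = T.subgroupOf (Subgroup.normalizer (D : Set G)) :=
  exists_sylow_aux R.T_le R.T_two R.T_max

include hG hyp hO in
/-- A natural module, or all elementary abelian subgroups of maximal order lie in `D`. -/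
theorem natRad_or : (∃ q, NatRad D T q) ∨ ∀ A, IsMaxElem A T → A ≤ D := by
  classical
  by_contra hcon
  push Not at hcon
  obtain ⟨hno, A, hA, hAD⟩ := hcon
  have hsyl := R.exists_sylow
  have hcore := R.pCore_eq
  set N := Subgroup.normalizer (D : Set G) with hN
  obtain ⟨S, hS⟩ := hsyl
  have hAN : A ≤ N := hA.1.trans R.T_le
  have hW : omegaZ D ≤ T := (omegaZ_le D).trans R.le
  have hAc : ∀ a ∈ A, ∀ b ∈ A, a * b = b * a := fun a ha b hb => by
    have h := hA.2.1 _ (A.mul_mem ha hb)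
    calc a * b = (a * b) * ((a * b) * (a * b))⁻¹ := by rw [h, inv_one, mul_one]
      _ = b⁻¹ * a⁻¹ := by group
      _ = b * a := by rw [inv_eq_of_mul_eq_one_right (hA.2.1 b hb), inv_eq_of_mul_eq_one_right (hA.2.1 a ha)]
  -- the offender inequality
  have hineq : Nat.card (omegaZ D) * Nat.card ↥(A ⊓ D) ≤
      Nat.card A * Nat.card ↥(omegaZ D ⊓ Subgroup.centralizer (A : Set G)) := by
    have hcomm : ∀ (a : ↥(A ⊓ D)) (w : omegaZ D), Commute ((A ⊓ D).subtype a) ((omegaZ D).subtype w) :=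
      fun a w => omegaZ_comm w.2 a.2.2
    set φ := (A ⊓ D).subtype.noncommCoprod (omegaZ D).subtype hcomm with hφ
    have h1 : Nat.card φ.ker * Nat.card φ.range = Nat.card ↥(A ⊓ D) * Nat.card (omegaZ D) := by
      rw [← Subgroup.index_ker, Subgroup.card_mul_index, Nat.card_prod]
    have h2 : Nat.card φ.range ≤ Nat.card A := by
      refine hA.2.2 _ ?_ ?_
      · rintro _ ⟨⟨a, w⟩, rfl⟩
        exact T.mul_mem (hA.1 a.2.1) (hW w.2)
      · rintro _ ⟨⟨a, w⟩, rfl⟩
        show (a : G) * w * ((a : G) * w) = 1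
        rw [(show Commute (w : G) a from (hcomm a w).symm).mul_mul_mul_comm, hA.2.1 _ a.2.1,
          omegaZ_sq w.2, one_mul]
    have hkinv : ∀ p : φ.ker, ((p.1.2 : omegaZ D) : G) = ((p.1.1 : ↥(A ⊓ D)) : G)⁻¹ := fun p =>
      eq_inv_of_mul_eq_one_right (MonoidHom.mem_ker.1 p.2)
    have h3 : Nat.card φ.ker ≤ Nat.card ↥(omegaZ D ⊓ Subgroup.centralizer (A : Set G)) := by
      refine Nat.card_le_card_of_injective (fun p => ⟨(p.1.2 : G), p.1.2.2, mem_centralizer'.2 fun x hx => ?_⟩) ?_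
      · rw [hkinv p]
        exact hAc x hx _ (A.inv_mem p.1.1.2.1)
      · intro p p' h
        have e : ((p.1.2 : omegaZ D) : G) = ((p'.1.2 : omegaZ D) : G) := (congrArg Subtype.val h :)
        have e' := hkinv p
        rw [e, hkinv p', inv_inj] at e'
        exact Subtype.ext (Prod.ext (Subtype.ext e'.symm) (Subtype.ext e))
    rw [mul_comm (Nat.card (omegaZ D)), ← h1, mul_comm (Nat.card A)]
    exact Nat.mul_le_mul h3 h2
  have hDN : D ≤ N := R.D_le_N
  obtain ⟨q, hq⟩ := natural_of_offender (hG.subgroup N)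
    (pCore_ne_bot_of_normalizes R.two R.ne hDN le_rfl)
    (hyp N (normalizer_ne_top hO R.two R.ne) (pCore_ne_bot_of_normalizes R.two R.ne hDN le_rfl)) S
    (by
      rw [hS, hcore]
      intro h
      rw [Subgroup.subgroupOf_inj, inf_eq_left.2 R.T_le, inf_eq_left.2 hDN] at h
      exact R.T_ne h)
    (A := A.subgroupOf N) (by rw [hS]; exact Subgroup.comap_mono hA.1)
    (fun a ha => Subtype.ext (hA.2.1 _ ha))
    (fun h => hAD fun a ha => by
      rw [hcore] at h
      exact h (show (⟨a, hAN ha⟩ : N) ∈ A.subgroupOf N from ha))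
    (by
      rw [hcore, omegaZ_subgroupOf hDN, subgroupOf_inf_centralizer hAN]
      rw [← inf_subgroupOf',
        Cores.card_subgroupOf ((omegaZ_le D).trans hDN), Cores.card_subgroupOf (inf_le_left.trans hAN),
        Cores.card_subgroupOf hAN,
        Cores.card_subgroupOf (inf_le_left.trans ((omegaZ_le D).trans hDN))]
      exact hineq)
  rw [hcore, hS] at hq
  have hWN : omegaZ D ≤ N := (omegaZ_le D).trans hDN
  have hnat : Natural D T q := by
    refine ⟨hq.q_pow, ?_, ?_, ?_, ?_, ?_, ?_, ?_⟩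
    · rw [← Subgroup.relIndex_subgroupOf R.T_le, hq.relIndex]
    · rw [← hq.card_W, omegaZ_subgroupOf hDN, Cores.card_subgroupOf hWN]
    · rw [← hq.card_fix, omegaZ_subgroupOf hDN, subgroupOf_inf_centralizer R.T_le,
        Cores.card_subgroupOf (inf_le_left.trans hWN)]
    · intro a ha haD w hw hc
      refine mem_centralizer'.2 fun t ht => congrArg Subtype.val (mem_centralizer'.1 (hq.fix ⟨a, R.T_le ha⟩ ha haD
        ⟨w, hWN hw⟩ (by rw [omegaZ_subgroupOf hDN]; exact hw) (Subtype.ext hc)) ⟨t, R.T_le ht⟩ ht)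
    · exact fun a ha => hq.sq ⟨a, R.T_le ha⟩ ha
    · exact fun a ha b hb => hq.comm ⟨a, R.T_le ha⟩ ha ⟨b, R.T_le hb⟩ hb
    · have h := hq.card_N
      haveI : (D.subgroupOf N).Normal := Cores.subgroupOf_normal_of_le_normalizer le_rfl
      rwa [Subgroup.normalizer_eq_top, Subgroup.card_top, Cores.card_subgroupOf hDN] at h
  obtain ⟨y, hy⟩ := exists_prime_orderOf_dvd_card' (hp := ⟨Nat.prime_three⟩) (G := N) 3 (by
    rw [hnat.card_N]; exact Dvd.dvd.mul_left (three_dvd q) _)
  exact hno q ⟨hnat, class_two hG R.two y.2 (by rw [Subgroup.orderOf_coe, hy]), A, hA, hAD⟩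

include hyp hO in
theorem map_conj (x : G) :
    Rad (D.map (MulAut.conj x).toMonoidHom) (T.map (MulAut.conj x).toMonoidHom) := by
  have hne : D.map (MulAut.conj x).toMonoidHom ≠ ⊥ := fun h => R.ne (by
    rwa [Subgroup.map_eq_bot_iff_of_injective _ (MulAut.conj x).injective] at h)
  have hpull : ∀ (M : Subgroup G),
      M ≤ Subgroup.normalizer ((D.map (MulAut.conj x).toMonoidHom : Subgroup G) : Set G) →
        M.map (MulAut.conj x⁻¹).toMonoidHom ≤ Subgroup.normalizer (D : Set G) := by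
    rintro M hM _ ⟨m, hm, rfl⟩
    have := mem_normalizer_map_conj.1 (hM hm)
    simpa using this
  refine Rad.of hyp (R.two.map _) hne (normalizer_ne_top hO (R.two.map _) hne) ?_ (R.T_two.map _) ?_ ?_ ?_
  · rintro _ ⟨t, ht, rfl⟩
    refine mem_normalizer_map_conj.2 ?_
    show x⁻¹ * (x * t * x⁻¹) * x ∈ _
    rw [show x⁻¹ * (x * t * x⁻¹) * x = t by group]
    exact R.T_le ht
  · intro P hP hP2 hle
    have h := R.T_max (P.map (MulAut.conj x⁻¹).toMonoidHom) (hpull P hP) (hP2.map _)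
      (by rw [← map_conj_map_conj T x]; exact Subgroup.map_mono hle)
    have h' := map_conj_map_conj P x⁻¹
    rw [inv_inv, h] at h'
    exact h'.symm
  · intro M hM hM2 hn
    have h := R.core (M.map (MulAut.conj x⁻¹).toMonoidHom) (hpull M hM) (hM2.map _) fun g hg => by
      refine mem_normalizer_map_conj.2 ?_
      rw [inv_inv]
      refine hn (mem_normalizer_map_conj.2 ?_)
      rwa [show x⁻¹ * (x * g * x⁻¹) * x = g by group]
    have h' := Subgroup.map_mono (f := (MulAut.conj x).toMonoidHom) h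
    have h'' := map_conj_map_conj M x⁻¹
    rw [inv_inv] at h''
    rwa [h''] at h'
  · intro h
    refine R.not_normal fun g hg => ?_
    have := h (mem_normalizer_map_conj.2 (show x⁻¹ * (x * g * x⁻¹) * x ∈ _ by
      rwa [show x⁻¹ * (x * g * x⁻¹) * x = g by group]))
    rw [mem_normalizer_map_conj] at this
    rwa [show x⁻¹ * (x * g * x⁻¹) * x = g by group] at this

theorem eq_top_inf (P : Subgroup G) (hP : IsPGroup 2 P) (hTP : T ≤ P) :
    P ⊓ Subgroup.normalizer (D : Set G) = T :=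
  R.T_max _ inf_le_right (hP.to_le inf_le_left) (le_inf hTP R.T_le)

include hyp hO in
/-- Without elementary abelian subgroups of maximal order outside `D`, `T` is a Sylow 2-subgroup and
`N(D) = N(Jmax T)`. -/
theorem sylow_of_all (hall : ∀ A, IsMaxElem A T → A ≤ D) :
    (∃ S : Sylow 2 G, (S : Subgroup G) = T) ∧
      Subgroup.normalizer (Jmax T : Set G) = Subgroup.normalizer (D : Set G) := by
  classical
  haveI : Fact (Nat.Prime 2) := ⟨Nat.prime_two⟩
  have hW : omegaZ D ≤ T := (omegaZ_le D).trans R.le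
  obtain ⟨A₀, ⟨hA₀T, hA₀e⟩, hA₀max⟩ := Set.Finite.exists_maximalFor (fun A : Subgroup G => Nat.card A)
    {A : Subgroup G | A ≤ T ∧ ∀ a ∈ A, a * a = 1} (Set.toFinite _)
      ⟨omegaZ D, hW, fun a ha => omegaZ_sq ha⟩
  have hA₀ : IsMaxElem A₀ T := ⟨hA₀T, hA₀e, fun B hB hBe => by
    rcases le_total (Nat.card B) (Nat.card A₀) with h | h
    · exact h
    · exact hA₀max (j := B) ⟨hB, hBe⟩ h⟩
  set J := Jmax T with hJ
  have hJD : J ≤ D := sSup_le hall
  have hJ2 : IsPGroup 2 J := R.two.to_le hJD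
  have hJ1 : J ≠ ⊥ := fun h => omegaZ_ne_bot R.two R.ne (Subgroup.eq_bot_of_card_eq _ (by
    have h1 : Nat.card A₀ ≤ Nat.card (⊥ : Subgroup G) := Subgroup.card_le_of_le (h ▸ le_sSup hA₀)
    rw [Subgroup.card_bot] at h1
    have := (hA₀.2.2 _ hW fun a ha => omegaZ_sq ha).trans h1
    have := Nat.card_pos (α := omegaZ D)
    omega))
  -- whatever maps the maximal elements to such lies in `N(J)`
  have hnorm : ∀ g : G, (∀ A, IsMaxElem A T → A.map (MulAut.conj g).toMonoidHom ≤ T) →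
      g ∈ Subgroup.normalizer (J : Set G) := by
    intro g hg
    refine Subgroup.mem_normalizer_fintype fun n hn => ?_
    have hle : J ≤ J.comap (MulAut.conj g).toMonoidHom := by
      conv_lhs => rw [hJ, Jmax]
      refine sSup_le fun A hA => Subgroup.map_le_iff_le_comap.1 (le_sSup ?_)
      refine ⟨hg A hA, ?_, fun B hB hBe => (hA.2.2 B hB hBe).trans (le_of_eq ?_)⟩
      · rintro _ ⟨a, ha, rfl⟩
        show g * a * g⁻¹ * (g * a * g⁻¹) = 1
        rw [_root_.conj_mul, hA.2.1 a ha, mul_one, mul_inv_cancel]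
      · rw [Subgroup.card_map_of_injective (f := (MulAut.conj g).toMonoidHom) (MulAut.conj g).injective]
    exact hle hn
  set N := Subgroup.normalizer (D : Set G) with hN
  set Y := Subgroup.normalizer (J : Set G) with hY
  have hNY : N ≤ Y := fun g hg => hnorm g fun A hA => by
    rintro _ ⟨a, ha, rfl⟩
    exact R.le ((Subgroup.mem_normalizer_iff.1 hg a).1 (hall A hA ha))
  have hTY : T ≤ Y := R.T_le.trans hNY
  have hYtop := normalizer_ne_top hO hJ2 hJ1
  have hti := hyp Y hYtop (pCore_ne_bot_of_normalizes hJ2 hJ1 Subgroup.le_normalizer le_rfl)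
  have hTY2 : IsPGroup 2 (T.subgroupOf Y) := R.T_two.comap_of_injective _ Y.subtype_injective
  obtain ⟨S₁, hS₁⟩ := hTY2.exists_le_sylow
  obtain ⟨g, hg, hgT⟩ := R.exists_not_normalizing
  set S₂ : Sylow 2 Y := (⟨g, hNY hg⟩ : Y) • S₁ with hS₂def
  have hS₂ : (T.map (MulAut.conj g).toMonoidHom).subgroupOf Y ≤ (S₂ : Subgroup Y) := by
    rw [hS₂def, Sylow.coe_subgroup_smul, ← subgroupOf_map_conj (hNY hg)]
    exact Subgroup.map_mono hS₁
  have hin : ∀ (S' : Sylow 2 Y) (g' : G), g' ∈ N →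
      (T.map (MulAut.conj g').toMonoidHom).subgroupOf Y ≤ (S' : Subgroup Y) →
      (S' : Subgroup Y).map Y.subtype ⊓ N = T.map (MulAut.conj g').toMonoidHom := fun S' g' hg' hle =>
    R.eq_map hg' inf_le_right ((S'.2.map Y.subtype).to_le inf_le_left) (le_inf (fun t ht =>
      ⟨⟨t, hNY (R.map_le_N hg' ht)⟩, hle (Subgroup.mem_subgroupOf.2 ht), rfl⟩) (R.map_le_N hg'))
  have hid : T.map (MulAut.conj (1 : G)).toMonoidHom = T := by
    ext z; rw [mem_map_conj]; simp
  have h1 := hin S₁ 1 N.one_mem (by rw [hid]; exact hS₁)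
  rw [hid] at h1
  have h2 := hin S₂ g hg hS₂
  have hne : (S₁ : Subgroup Y) ≠ S₂ := fun h => hgT (by rw [← h2, ← h, h1])
  have hZ := hti S₁ S₂ hne
  set Z := (pCore 2 Y).map Y.subtype with hZdef
  have hDZ : D ≤ Z := by
    intro d hd
    refine ⟨⟨d, hTY (R.le hd)⟩, ?_, rfl⟩
    rw [← hZ]
    refine ⟨hS₁ (Subgroup.mem_subgroupOf.2 (R.le hd)), hS₂ (Subgroup.mem_subgroupOf.2 ?_)⟩
    rw [mem_map_conj]
    exact R.le ((Subgroup.mem_normalizer_iff''.1 hg d).1 hd)
  have hZN : Z ⊓ N ≤ D := by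
    rintro _ ⟨⟨z, hz, rfl⟩, hzN⟩
    rw [← hZ] at hz
    exact (R.ti g hg hgT).le ⟨h1.le ⟨⟨z, hz.1, rfl⟩, hzN⟩, h2.le ⟨⟨z, hz.2, rfl⟩, hzN⟩⟩
  have hZD : Z = D := by
    by_contra hne'
    obtain ⟨x, hxZ, hxD, hxN⟩ := exists_normalizing ((Cores.isPGroup_pCore 2 Y).map _) hDZ (Ne.symm hne')
    exact hxD (hZN ⟨hxZ, hxN⟩)
  have hYN : Y ≤ N := by
    intro y hy
    have := pCore_map_normalizer Y hy
    rw [← hZdef, hZD] at this
    exact this
  refine ⟨?_, le_antisymm hYN hNY⟩
  obtain ⟨S, hS⟩ := R.T_two.exists_le_sylow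
  refine ⟨S, by_contra fun hne' => ?_⟩
  obtain ⟨x, hxS, hxT, hxn⟩ := exists_normalizing S.2 hS (Ne.symm hne')
  have hxN : x ∈ N := hYN (hnorm x fun A hA => by
    rintro _ ⟨a, ha, rfl⟩
    exact (Subgroup.mem_normalizer_iff.1 hxn a).1 (hA.1 ha))
  have h := R.eq_top_inf S S.2 hS
  exact hxT (h.le ⟨hxS, hxN⟩)

end Rad

end Cfsg.Agent.CIT
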