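/-
The structure theorem for CIT groups.

* `IsPair`      : two radical subgroups with natural modules and a common Sylow 2-subgroup
* `exists_pair` : without 2-core, if two Sylow 2-subgroups meet nontrivially there is a pair
* `tiMod`       : with a nontrivial 2-core, two Sylow 2-subgroups meet in the 2-core
* `hyp`         : so `Hyp` holds for every CIT group
-/
import Cfsg.Agent.Lib.CIT.Radical

set_option autoImplicit false

open Cfsg
open scoped Pointwise

namespace Cfsg.Agent.CIT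

universe u

variable {G : Type u} [Group G]

/-- Two radical subgroups with natural modules and a common Sylow 2-subgroup. -/
structure IsPair (D₁ D₂ T : Subgroup G) (q : ℕ) : Prop where
  ne : D₁ ≠ D₂
  rad₁ : Rad D₁ T
  rad₂ : Rad D₂ T
  nat₁ : NatRad D₁ T q
  nat₂ : NatRad D₂ T q
  el₁ : D₁ = omegaZ D₁
  el₂ : D₂ = omegaZ D₂
  inf_eq : D₁ ⊓ D₂ = omegaZ D₂ ⊓ Subgroup.centralizer (T : Set G)
  card_T : Nat.card T = q ^ 3

variable [Finite G]

theorem isPair_of (hG : IsCIT G) (hyp : Hyp G) (hO : pCore 2 G = ⊥) {D₁ D₂ T : Subgroup G} {q : ℕ}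
    (hne : D₁ ≠ D₂) (R₁ : Rad D₁ T) (R₂ : Rad D₂ T) (N₂ : NatRad D₂ T q) : IsPair D₁ D₂ T q := by
  obtain ⟨e1, e2, N₁, hinf, hT⟩ := pair hG R₁ R₂ N₂ (R₁.natRad_or hG hyp hO) hne
  exact ⟨hne, R₁, R₂, N₁, N₂, e1, e2, hinf, hT⟩

section NoPair

variable (hG : IsCIT G) (hyp : Hyp G) (hO : pCore 2 G = ⊥)
  (hno : ∀ (D₁ D₂ T : Subgroup G) (q : ℕ), ¬ IsPair D₁ D₂ T q)
include hG hyp hO hno

/-- The Sylow 2-subgroups of normalisers of radicals are Sylow 2-subgroups. -/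
theorem sylow_of_rad {D T : Subgroup G} (R : Rad D T) : ∃ S : Sylow 2 G, (S : Subgroup G) = T := by
  haveI : Fact (Nat.Prime 2) := ⟨Nat.prime_two⟩
  rcases R.natRad_or hG hyp hO with ⟨q, hnat⟩ | hall
  · obtain ⟨S, hS⟩ := R.T_two.exists_le_sylow
    refine ⟨S, by_contra fun hne => ?_⟩
    obtain ⟨x, hxS, hxT, hxn⟩ := exists_normalizing S.2 hS (Ne.symm hne)
    have R' := R.map_conj hyp hO x
    have e : T.map (MulAut.conj x).toMonoidHom = T :=
      Subgroup.mem_normalizer_iff_map_conj_eq.1 hxn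
    rw [e] at R'
    refine hno _ _ _ _ (isPair_of hG hyp hO (fun h => hxT ?_) R' R hnat)
    exact (R.eq_top_inf S S.2 hS).le ⟨hxS, Subgroup.mem_normalizer_iff_map_conj_eq.2 h⟩
  · exact (R.sylow_of_all hyp hO hall).1

theorem rad_unique {D D' T : Subgroup G} (R : Rad D T) (R' : Rad D' T) : D = D' := by
  by_contra hne
  rcases R'.natRad_or hG hyp hO with ⟨q, hq⟩ | hall'
  · exact hno _ _ _ _ (isPair_of hG hyp hO hne R R' hq)
  rcases R.natRad_or hG hyp hO with ⟨q, hq⟩ | hall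
  · exact hno _ _ _ _ (isPair_of hG hyp hO (Ne.symm hne) R' R hq)
  have h := ((R.sylow_of_all hyp hO hall).2.symm).trans (R'.sylow_of_all hyp hO hall').2
  exact hne (le_antisymm (R'.core D (h ▸ R.D_le_N) R.two (h ▸ le_rfl))
    (R.core D' (h ▸ R'.D_le_N) R'.two (h ▸ le_rfl)))

end NoPair

/-- A 2-subgroup containing the intersection of two maximal 2-subgroups of its normaliser is radical. -/
theorem rad_of_inf (hyp : Hyp G) (hO : pCore 2 G = ⊥) {X P P' : Subgroup G} (hX : IsPGroup 2 X)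
    (hX1 : X ≠ ⊥) (hPN : P ≤ Subgroup.normalizer (X : Set G))
    (hP'N : P' ≤ Subgroup.normalizer (X : Set G)) (hP : IsPGroup 2 P) (hP' : IsPGroup 2 P')
    (hmax : ∀ R : Subgroup G, R ≤ Subgroup.normalizer (X : Set G) → IsPGroup 2 R → P ≤ R → R = P)
    (hmax' : ∀ R : Subgroup G, R ≤ Subgroup.normalizer (X : Set G) → IsPGroup 2 R → P' ≤ R → R = P')
    (hinf : P ⊓ P' ≤ X) (hne : P ≠ P') : Rad X P := by
  refine Rad.of hyp hX hX1 (normalizer_ne_top hO hX hX1) hPN hP hmax (fun M hM hM2 hn => ?_) fun h => ?_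
  · have h1 := hmax (P ⊔ M) (sup_le hPN hM) (hP.to_sup_of_normal_right' hM2 (hPN.trans hn)) le_sup_left
    have h2 := hmax' (P' ⊔ M) (sup_le hP'N hM) (hP'.to_sup_of_normal_right' hM2 (hP'N.trans hn)) le_sup_left
    exact (le_inf (le_sup_right.trans h1.le) (le_sup_right.trans h2.le)).trans hinf
  · have h1 := hmax (P' ⊔ P) (sup_le hP'N hPN) (hP'.to_sup_of_normal_right' hP (hP'N.trans h)) le_sup_right
    exact hne (hmax' P hPN hP (le_sup_left.trans h1.le))

/-- Maximal 2-subgroups of the normaliser of an intersection of Sylow 2-subgroups. -/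
theorem exists_local_sylow {S S' : Sylow 2 G} (hne : (S : Subgroup G) ≠ S') :
    ∃ (P : Subgroup G) (S₁ : Sylow 2 G),
      P ≤ Subgroup.normalizer (((S : Subgroup G) ⊓ S' : Subgroup G) : Set G) ∧ IsPGroup 2 P ∧
      (∀ R : Subgroup G, R ≤ Subgroup.normalizer (((S : Subgroup G) ⊓ S' : Subgroup G) : Set G) →
        IsPGroup 2 R → P ≤ R → R = P) ∧ P ≤ (S₁ : Subgroup G) ∧ (S : Subgroup G) ⊓ S' ≤ P ∧
      ∃ x ∈ P, x ∈ (S : Subgroup G) ∧ x ∉ (S : Subgroup G) ⊓ S' := by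
  haveI : Fact (Nat.Prime 2) := ⟨Nat.prime_two⟩
  set X := (S : Subgroup G) ⊓ S' with hX
  obtain ⟨P, hK, hPN, hP, hmax⟩ := exists_max_two (N := Subgroup.normalizer (X : Set G))
    (K := (S : Subgroup G) ⊓ Subgroup.normalizer (X : Set G)) inf_le_right (S.2.to_le inf_le_left)
  obtain ⟨S₁, hS₁⟩ := hP.exists_le_sylow
  have hXS : X ≠ (S : Subgroup G) := fun h => hne (Subgroup.eq_of_le_of_card_ge (h.ge.trans inf_le_right)
    (le_of_eq (by rw [Sylow.card_eq_multiplicity, Sylow.card_eq_multiplicity])))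
  obtain ⟨x, hxS, hxX, hxn⟩ := exists_normalizing S.2 inf_le_left hXS
  exact ⟨P, S₁, hPN, hP, hmax, hS₁, le_trans (le_inf inf_le_left Subgroup.le_normalizer) hK,
    x, hK ⟨hxS, hxn⟩, hxS, hxX⟩

/-- Without 2-core, if two Sylow 2-subgroups meet nontrivially there is a pair. -/
theorem exists_pair (hG : IsCIT G) (hyp : Hyp G) (hO : pCore 2 G = ⊥) (hn : ¬ TIMod G) :
    ∃ (D₁ D₂ T : Subgroup G) (q : ℕ), IsPair D₁ D₂ T q := by
  classical
  haveI : Fact (Nat.Prime 2) := ⟨Nat.prime_two⟩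
  by_contra hcon
  push Not at hcon
  have hsyl := fun {D T : Subgroup G} (R : Rad D T) => sylow_of_rad hG hyp hO hcon R
  have huniq := fun {D D' T : Subgroup G} (R : Rad D T) (R' : Rad D' T) => rad_unique hG hyp hO hcon R R'
  -- a radical from a maximal intersection
  unfold TIMod at hn
  push Not at hn
  rw [hO] at hn
  obtain ⟨A, B, hAB, hAB1⟩ := hn
  obtain ⟨⟨S, S'⟩, ⟨hne, hX1⟩, hmaxX⟩ := Set.Finite.exists_maximalFor
    (fun p : Sylow 2 G × Sylow 2 G => Nat.card ↥((p.1 : Subgroup G) ⊓ p.2))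
    {p : Sylow 2 G × Sylow 2 G | (p.1 : Subgroup G) ≠ p.2 ∧ (p.1 : Subgroup G) ⊓ p.2 ≠ ⊥} (Set.toFinite _)
    ⟨(A, B), hAB, hAB1⟩
  obtain ⟨D₀, S₀, hR₀⟩ : ∃ (D₀ : Subgroup G) (S₀ : Sylow 2 G), Rad D₀ (S₀ : Subgroup G) := by
    have hle : ∀ (U V : Sylow 2 G) (x : G), (U : Subgroup G) ⊓ V ≠ ⊥ → x ∈ (U : Subgroup G) ⊓ V →
        (S : Subgroup G) ⊓ S' ≤ (U : Subgroup G) ⊓ V → x ∉ (S : Subgroup G) ⊓ S' →
        (U : Subgroup G) = V := fun U V x h1 hx hXle hxX => by_contra fun hUV => hxX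
      ((Subgroup.eq_of_le_of_card_ge hXle (hmaxX (j := (U, V)) ⟨hUV, h1⟩ (Subgroup.card_le_of_le hXle))).ge hx)
    have hne' : ∀ {U : Subgroup G}, (S : Subgroup G) ⊓ S' ≤ U → U ≠ ⊥ := fun h e =>
      hX1 (le_bot_iff.1 (e ▸ h))
    obtain ⟨P, S₁, hPN, hP, hmax, hPS, hXP, x, hxP, hxS, hxX⟩ := exists_local_sylow hne
    obtain ⟨P', S₂, hP'N, hP', hmax', hP'S, hXP', x', hx'P, hx'S, hx'X⟩ := exists_local_sylow (Ne.symm hne)
    rw [inf_comm] at hP'N hmax' hXP' hx'X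
    have e1 : (S : Subgroup G) = S₁ := hle S S₁ x (hne' (le_inf inf_le_left (hXP.trans hPS)))
      ⟨hxS, hPS hxP⟩ (le_inf inf_le_left (hXP.trans hPS)) hxX
    have e2 : (S' : Subgroup G) = S₂ := hle S' S₂ x' (hne' (le_inf inf_le_right (hXP'.trans hP'S)))
      ⟨hx'S, hP'S hx'P⟩ (le_inf inf_le_right (hXP'.trans hP'S)) hx'X
    have hR := rad_of_inf hyp hO (S.2.to_le inf_le_left) hX1 hPN hP'N hP hP' hmax hmax'
      (inf_le_inf (hPS.trans e1.ge) (hP'S.trans e2.ge))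
      fun h => hxX ⟨hxS, e2.ge (hP'S (h ▸ hxP))⟩
    obtain ⟨S₀, hS₀⟩ := hsyl hR
    exact ⟨_, S₀, hS₀ ▸ hR⟩
  -- every Sylow 2-subgroup has one
  have hrad : ∀ S : Sylow 2 G, ∃ D, Rad D (S : Subgroup G) := fun S => by
    obtain ⟨g, rfl⟩ := MulAction.exists_smul_eq G S₀ S
    refine ⟨D₀.map (MulAut.conj g).toMonoidHom, ?_⟩
    rw [Sylow.coe_subgroup_smul]
    exact hR₀.map_conj hyp hO g
  -- intersecting Sylow 2-subgroups have the same
  have key : ∀ (n : ℕ) (S S' : Sylow 2 G), (S : Subgroup G) ⊓ S' ≠ ⊥ →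
      Nat.card G ≤ Nat.card ↥((S : Subgroup G) ⊓ S') + n →
      ∀ D D', Rad D (S : Subgroup G) → Rad D' (S' : Subgroup G) → D = D' := by
    intro n
    induction n with
    | zero =>
      intro S S' _ hle D D' R R'
      have h := Subgroup.eq_top_of_card_eq ((S : Subgroup G) ⊓ S')
        (le_antisymm (Subgroup.card_le_card_group _) (by omega))
      rw [inf_eq_top_iff] at h
      rw [h.1] at R
      rw [h.2] at R'
      exact huniq R R'
    | succ n ih =>
      intro S S' hX1 hle D D' R R'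
      by_cases hne : (S : Subgroup G) = S'
      · rw [hne] at R
        exact huniq R R'
      have step : ∀ (U V : Sylow 2 G) (x : G), x ∈ (U : Subgroup G) ⊓ V →
          (S : Subgroup G) ⊓ S' ≤ (U : Subgroup G) ⊓ V → x ∉ (S : Subgroup G) ⊓ S' →
          ∀ E E', Rad E (U : Subgroup G) → Rad E' (V : Subgroup G) → E = E' := by
        intro U V x hx hXle hxX
        refine ih U V (fun h => hX1 (le_bot_iff.1 (h ▸ hXle))) ?_
        have : Nat.card ↥((S : Subgroup G) ⊓ S') < Nat.card ↥((U : Subgroup G) ⊓ V) := by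
          refine lt_of_le_of_ne (Subgroup.card_le_of_le hXle) fun h => hxX ?_
          exact (Subgroup.eq_of_le_of_card_ge hXle h.ge).ge hx
        omega
      obtain ⟨P, S₁, hPN, hP, hmax, hPS, hXP, x, hxP, hxS, hxX⟩ := exists_local_sylow hne
      obtain ⟨P', S₂, hP'N, hP', hmax', hP'S, hXP', x', hx'P, hx'S, hx'X⟩ := exists_local_sylow (Ne.symm hne)
      rw [inf_comm] at hP'N hmax' hXP' hx'X
      obtain ⟨E, RE⟩ := hrad S₁
      obtain ⟨E', RE'⟩ := hrad S₂
      rw [step S S₁ x ⟨hxS, hPS hxP⟩ (le_inf inf_le_left (hXP.trans hPS)) hxX D E R RE,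
        step S' S₂ x' ⟨hx'S, hP'S hx'P⟩ (le_inf inf_le_right (hXP'.trans hP'S)) hx'X D' E' R' RE']
      by_cases h12 : (S₁ : Subgroup G) ⊓ S₂ ≤ (S : Subgroup G) ⊓ S'
      · have hPP : P ≠ P' := fun h => hxX (h12 ⟨hPS hxP, hP'S (h ▸ hxP)⟩)
        have hX := S.2.to_le (inf_le_left : (S : Subgroup G) ⊓ S' ≤ S)
        have hR := rad_of_inf hyp hO hX hX1 hPN hP'N hP hP' hmax hmax' ((inf_le_inf hPS hP'S).trans h12) hPP
        have hR' := rad_of_inf hyp hO hX hX1 hP'N hPN hP' hP hmax' hmax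
          ((inf_le_inf hP'S hPS).trans (inf_comm (S₁ : Subgroup G) S₂ ▸ h12)) (Ne.symm hPP)
        obtain ⟨U, hU⟩ := hsyl hR
        obtain ⟨U', hU'⟩ := hsyl hR'
        have e1 : (S₁ : Subgroup G) = P := (Subgroup.eq_of_le_of_card_ge hPS (le_of_eq (by
          rw [← hU, Sylow.card_eq_multiplicity, Sylow.card_eq_multiplicity]))).symm
        have e2 : (S₂ : Subgroup G) = P' := (Subgroup.eq_of_le_of_card_ge hP'S (le_of_eq (by
          rw [← hU', Sylow.card_eq_multiplicity, Sylow.card_eq_multiplicity]))).symm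
        rw [e1] at RE
        rw [e2] at RE'
        exact (huniq RE hR).trans (huniq hR' RE')
      · obtain ⟨z, hz, hzX⟩ := SetLike.not_le_iff_exists.1 h12
        exact step S₁ S₂ z hz (le_inf (hXP.trans hPS) (hXP'.trans hP'S)) hzX E E' RE RE'
  have hconn : ∀ (S S' : Sylow 2 G) (t : G), t ∈ (S : Subgroup G) → t ∈ (S' : Subgroup G) → t ≠ 1 →
      ∀ D D', Rad D (S : Subgroup G) → Rad D' (S' : Subgroup G) → D = D' := fun S S' t ht ht' ht1 =>
    key (Nat.card G) S S' (fun h => ht1 (by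
      have : t ∈ (S : Subgroup G) ⊓ S' := ⟨ht, ht'⟩
      rwa [h, Subgroup.mem_bot] at this)) (Nat.le_add_left _ _)
  -- the normaliser of a radical is strongly embedded
  set N := Subgroup.normalizer (D₀ : Set G) with hN
  have hS₀N : (S₀ : Subgroup G) ≤ N := hR₀.T_le
  have hin : ∀ t ∈ N, IsPGroup 2 (Subgroup.zpowers t) →
      ∃ S : Sylow 2 G, t ∈ (S : Subgroup G) ∧ Rad D₀ (S : Subgroup G) := by
    intro t ht h2
    obtain ⟨Q, hQ⟩ := (h2.comap_of_injective N.subtype N.subtype_injective).exists_le_sylow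
    obtain ⟨n, rfl⟩ := MulAction.exists_smul_eq N (S₀.subtype hS₀N) Q
    refine ⟨(n : G) • S₀, ?_, ?_⟩
    · have h := hQ (show (⟨t, ht⟩ : N) ∈ (Subgroup.zpowers t).comap N.subtype from Subgroup.mem_zpowers t)
      rw [Sylow.coe_subgroup_smul, Sylow.coe_subtype] at h
      change (⟨t, ht⟩ : N) ∈ ((S₀ : Subgroup G).subgroupOf N).map (MulAut.conj n).toMonoidHom at h
      rw [subgroupOf_map_conj n.2, Subgroup.mem_subgroupOf] at h
      rw [Sylow.coe_subgroup_smul]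
      exact h
    · have hR := hR₀.map_conj hyp hO (n : G)
      have e : D₀.map (MulAut.conj (n : G)).toMonoidHom = D₀ :=
        Subgroup.mem_normalizer_iff_map_conj_eq.1 n.2
      rw [e] at hR
      rw [Sylow.coe_subgroup_smul]
      exact hR
  have htwo : ∀ t : G, orderOf t = 2 → IsPGroup 2 (Subgroup.zpowers t) := fun t ht =>
    IsPGroup.of_card (n := 1) (by rw [Nat.card_zpowers, ht, pow_one])
  have hSE : IsStronglyEmbedded N := by
    refine Involution.isStronglyEmbedded_iff_forall.2 ⟨normalizer_ne_top hO hR₀.two hR₀.ne, ?_,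
      fun g t ht htN hg => ?_⟩
    · rw [even_iff_two_dvd]
      obtain ⟨n, hn⟩ := IsPGroup.iff_card.1 hR₀.two
      have h1 : 2 ∣ Nat.card D₀ := by
        rw [hn]
        refine dvd_pow_self 2 fun h0 => hR₀.ne (Subgroup.eq_bot_of_card_eq _ ?_)
        rw [hn, h0, pow_zero]
      exact h1.trans (Subgroup.card_dvd_of_le hR₀.D_le_N)
    · obtain ⟨U, hU, hUR⟩ := hin t htN (htwo t ht)
      obtain ⟨V, hV, hVR⟩ := hin _ hg (htwo _ (by rw [Involution.orderOf_conj, ht]))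
      have hgU : g * t * g⁻¹ ∈ ((g • U : Sylow 2 G) : Subgroup G) := by
        rw [Sylow.coe_subgroup_smul]; exact ⟨t, hU, rfl⟩
      have hgUR := hUR.map_conj hyp hO g
      exact Subgroup.mem_normalizer_iff_map_conj_eq.2 (hconn (g • U) V _ hgU hV
        (fun h => Involution.ne_one ht (conj_eq_one_iff.1 h)) _ _ (by rwa [Sylow.coe_subgroup_smul]) hVR)
  -- but it has involutions inside and outside `D₀`
  obtain ⟨a, ha, haD⟩ : ∃ a ∈ (S₀ : Subgroup G), a ∉ D₀ := by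
    by_contra h
    push Not at h
    exact hR₀.T_ne (le_antisymm h hR₀.le)
  have hcore := hR₀.pCore_eq
  rw [← hN] at hcore
  obtain ⟨u, huN, huD, hu2⟩ : ∃ u ∈ N, u ∉ D₀ ∧ u * u ∈ D₀ := by
    obtain ⟨k, hk⟩ := S₀.2 ⟨a, ha⟩
    have hk' : a ^ 2 ^ k = 1 := congrArg Subtype.val hk
    clear hk
    induction k generalizing a with
    | zero => rw [pow_zero, pow_one] at hk'; exact absurd (hk' ▸ D₀.one_mem) haD
    | succ k ih =>
      by_cases hsq : a * a ∈ D₀
      · exact ⟨a, hS₀N ha, haD, hsq⟩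
      · exact ih (a * a) ((S₀ : Subgroup G).mul_mem ha ha) hsq (by rw [← pow_two, ← pow_mul, ← pow_succ']; exact hk')
  have hDN : D₀ ≤ N := hR₀.D_le_N
  obtain ⟨q, hq, hqu, -⟩ := (hG.subgroup N).exists_lift (pCore_ne_bot_of_normalizes hR₀.two hR₀.ne hDN le_rfl)
    (u := ⟨u, huN⟩) (by rw [hcore]; exact huD) (by rw [hcore]; exact hu2)
  rw [hcore, Subgroup.mem_subgroupOf] at hq
  set t := ((q * ⟨u, huN⟩ : N) : G) with htdef
  have ht : orderOf t = 2 := by rw [htdef, Subgroup.orderOf_coe]; exact hqu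
  have htD : t ∉ D₀ := fun h => huD ((D₀.mul_mem_cancel_left hq).1 h)
  obtain ⟨⟨z, hz⟩, hz1⟩ := (omegaZ D₀).ne_bot_iff_exists_ne_one.1 (omegaZ_ne_bot hR₀.two hR₀.ne)
  have hz2 : orderOf z = 2 := Involution.orderOf_of_sq (omegaZ_sq hz) fun e => hz1 (Subtype.ext e)
  obtain ⟨g, hg, hgt⟩ := Involution.exists_conj_in hSE hz2 (hDN (omegaZ_le _ hz)) ht (q * ⟨u, huN⟩ : N).2
  exact htD (hgt ▸ (Subgroup.mem_normalizer_iff.1 hg z).1 (omegaZ_le _ hz))

/-- In a CIT group with a nontrivial 2-core two Sylow 2-subgroups meet in it. -/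
theorem tiMod_aux : ∀ (n : ℕ) {G : Type u} [Group G] [Finite G], Nat.card G < n → IsCIT G →
    pCore 2 G ≠ ⊥ → TIMod G := by
  intro n
  induction n with
  | zero => intro G _ _ h; omega
  | succ n ih =>
    intro G _ _ hcard hG hO
    classical
    haveI : Fact (Nat.Prime 2) := ⟨Nat.prime_two⟩
    set Q := pCore 2 G with hQdef
    have hQ : IsPGroup 2 Q := Cores.isPGroup_pCore 2 G
    have hGb : IsCIT (G ⧸ Q) := hG.quotient Q hQ
    have hOb : pCore 2 (G ⧸ Q) = ⊥ := Cores.pCore_quotient_self 2 G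
    set f := QuotientGroup.mk' Q with hf
    have hker : f.ker = Q := QuotientGroup.ker_mk' Q
    have hQs : ∀ S : Sylow 2 G, Q ≤ (S : Subgroup G) := Cores.pCore_le_sylow
    by_cases hTI : TIMod (G ⧸ Q)
    · intro S S' hne
      refine le_antisymm ?_ (le_inf (hQs S) (hQs S'))
      have h := hTI (S.mapSurjective (QuotientGroup.mk'_surjective Q))
        (S'.mapSurjective (QuotientGroup.mk'_surjective Q))
      rw [Sylow.coe_mapSurjective, Sylow.coe_mapSurjective, hOb] at h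
      have h' := h fun e => hne (by
        have := congrArg (Subgroup.comap f) e
        rwa [Subgroup.comap_map_eq_self (by rw [hker]; exact hQs S),
          Subgroup.comap_map_eq_self (by rw [hker]; exact hQs S')] at this)
      intro x hx
      have : f x ∈ (⊥ : Subgroup (G ⧸ Q)) := h'.le ⟨⟨x, hx.1, rfl⟩, ⟨x, hx.2, rfl⟩⟩
      exact (QuotientGroup.eq_one_iff x).1 (Subgroup.mem_bot.1 this)
    exfalso
    have hlt : Nat.card (G ⧸ Q) < Nat.card G := by
      have h2 : 2 ≤ Nat.card Q := by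
        rw [Nat.succ_le_iff, Finite.one_lt_card_iff_nontrivial]
        exact Q.nontrivial_iff_ne_bot.2 hO
      rw [Q.card_eq_card_quotient_mul_card_subgroup]
      have := Nat.card_pos (α := G ⧸ Q)
      nlinarith
    have hhyp : Hyp (G ⧸ Q) := fun H _ hH =>
      ih (lt_of_le_of_lt (Subgroup.card_le_card_group H) (by omega)) (hGb.subgroup H) hH
    obtain ⟨D₁, D₂, T, q, hp⟩ := exists_pair hGb hhyp hOb hTI
    set E₁ := D₁.comap f with hE₁
    set E₂ := D₂.comap f with hE₂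
    have hcom : ∀ D : Subgroup (G ⧸ Q), IsPGroup 2 D → IsPGroup 2 (D.comap f) := fun D hD =>
      hD.comap_of_ker_isPGroup f (hker.symm ▸ hQ)
    have hnorm : ∀ (D : Subgroup (G ⧸ Q)) {g : G}, f g ∈ Subgroup.normalizer (D : Set (G ⧸ Q)) →
        g ∈ Subgroup.normalizer ((D.comap f : Subgroup G) : Set G) := fun D g hg =>
      Subgroup.mem_normalizer_iff.2 fun x => by
        rw [Subgroup.mem_comap, Subgroup.mem_comap, map_mul, map_mul, map_inv]
        exact Subgroup.mem_normalizer_iff.1 hg (f x)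
    have hclass : ∀ (D : Subgroup (G ⧸ Q)), IsPGroup 2 D → Natural D T q →
        ∀ a ∈ D.comap f, ∀ b ∈ D.comap f, ∀ c ∈ D.comap f,
          c * (a * b * a⁻¹ * b⁻¹) = (a * b * a⁻¹ * b⁻¹) * c := by
      intro D hD hnat
      obtain ⟨y, hy⟩ := exists_prime_orderOf_dvd_card' (hp := ⟨Nat.prime_three⟩)
        (G := Subgroup.normalizer (D : Set (G ⧸ Q))) 3 (by
          rw [hnat.card_N]; exact Dvd.dvd.mul_left (three_dvd q) _)
      obtain ⟨y₀, hy₀⟩ := QuotientGroup.mk'_surjective Q (y : G ⧸ Q)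
      have h3 : 3 ∣ orderOf y₀ := by
        rw [← hy, ← Subgroup.orderOf_coe, ← hy₀]; exact orderOf_map_dvd _ _
      refine class_two hG (hcom D hD) (y := y₀ ^ (orderOf y₀ / 3)) (hnorm D ?_)
        (orderOf_pow_orderOf_div (orderOf_pos y₀).ne' h3)
      rw [map_pow, hy₀]
      exact Subgroup.pow_mem _ y.2 _
    set M := omegaZ Q with hMdef
    have hMQ : M ≤ Q := omegaZ_le Q
    have hM2 : IsPGroup 2 M := hQ.to_le hMQ
    have hQE : ∀ D : Subgroup (G ⧸ Q), Q ≤ D.comap f := fun D x hx => by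
      rw [Subgroup.mem_comap, show f x = 1 from (QuotientGroup.eq_one_iff x).2 hx]; exact one_mem _
    have htop : ∀ g : G, g ∈ Subgroup.normalizer (M : Set G) := fun g =>
      normalizer_le_omegaZ Q (by rw [Subgroup.normalizer_eq_top]; trivial)
    -- a common involution
    obtain ⟨n₂, hn₂, hq₂⟩ := hp.nat₂.nat.q_pow
    have hq2 : 2 ≤ q := by rw [hq₂]; exact le_self_pow₀ one_le_two (by omega)
    obtain ⟨cb, hcb, hcb1⟩ : ∃ cb ∈ D₁ ⊓ D₂, cb ≠ 1 := by
      have h : 2 ≤ Nat.card ↥(D₁ ⊓ D₂) := by rw [hp.inf_eq, hp.nat₂.nat.card_fix]; exact hq2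
      rw [Nat.succ_le_iff, Finite.one_lt_card_iff_nontrivial] at h
      obtain ⟨x, hx, h1⟩ := (Subgroup.nontrivial_iff_exists_ne_one _).1 h
      exact ⟨x, hx, h1⟩
    obtain ⟨u₀, hu₀⟩ := QuotientGroup.mk'_surjective Q cb
    obtain ⟨x₀, hx₀, hc, y, hy1, hyodd, hinv⟩ := hG.exists_lift hO (u := u₀)
      (fun h => hcb1 (by rw [← hu₀]; exact (QuotientGroup.eq_one_iff u₀).2 h)) (by
        refine (QuotientGroup.eq_one_iff _).1 ?_
        change f (u₀ * u₀) = 1
        rw [map_mul, hu₀]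
        exact omegaZ_sq (hp.el₂.le hcb.2))
    set c := x₀ * u₀ with hcdef
    have hfc : f c = cb := by
      rw [hcdef, map_mul, show f x₀ = 1 from (QuotientGroup.eq_one_iff x₀).2 hx₀, one_mul, hu₀]
    have hc₁ : c ∈ E₁ := by rw [hE₁, Subgroup.mem_comap, hfc]; exact hcb.1
    have hc₂ : c ∈ E₂ := by rw [hE₂, Subgroup.mem_comap, hfc]; exact hcb.2
    obtain ⟨hMcard, hMcomm⟩ := fix_half hG hM2 hc hy1 hyodd hinv (htop y) (htop c) fun d hd => omegaZ_sq hd
    set M₁ := M ⊓ Subgroup.centralizer ({c} : Set G) with hM₁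
    have hM₁ne : M₁ ≠ ⊥ := fun h => omegaZ_ne_bot hQ hO (Subgroup.eq_bot_of_card_eq _ (by
      rw [← hMdef, hMcard, h, Subgroup.card_bot, one_pow]))
    have hcent : ∀ (D : Subgroup (G ⧸ Q)), IsPGroup 2 D → Natural D T q → c ∈ D.comap f →
        ∀ z ∈ M₁, ∀ d ∈ D.comap f, d * z = z * d := by
      intro D hD hnat hcD z hz d hd
      obtain ⟨m, hm, rfl⟩ := hMcomm z hz
      have h := hclass D hD hnat m (hQE D (hMQ hm)) c hcD d hd
      rwa [inv_eq_of_mul_eq_one_right (omegaZ_sq hm), Involution.inv_eq hc, show m * c * m * c = m * (c * m * c) by group,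
        show m * (c * m * c) = m * (c * m * c⁻¹) by rw [Involution.inv_eq hc]] at h
    obtain ⟨ub, hub, hub1⟩ : ∃ ub ∈ D₂, ub ∉ D₁ := by
      by_contra h
      push Not at h
      refine hp.ne (Subgroup.eq_of_le_of_card_ge h (le_of_eq ?_)).symm
      rw [hp.el₁, hp.el₂, hp.nat₁.nat.card_W, hp.nat₂.nat.card_W]
    obtain ⟨u, hu⟩ := QuotientGroup.mk'_surjective Q ub
    set N₁ := (Subgroup.normalizer (D₁ : Set (G ⧸ Q))).comap f with hN₁
    have hKn : ∀ g ∈ N₁, ∀ z ∈ M₁, g * z * g⁻¹ ∈ M₁ := by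
      intro g hg z hz
      refine ⟨(Subgroup.mem_normalizer_iff.1 (htop g) z).1 hz.1, Subgroup.mem_centralizer_singleton_iff.2 ?_⟩
      have h' : g⁻¹ * c * g ∈ E₁ := (Subgroup.mem_normalizer_iff''.1 (hnorm D₁ hg) c).1 hc₁
      have h1 := hcent D₁ hp.rad₁.two hp.nat₁.nat hc₁ z hz _ h'
      calc g * z * g⁻¹ * c = g * (z * (g⁻¹ * c * g)) * g⁻¹ := by group
        _ = g * ((g⁻¹ * c * g) * z) * g⁻¹ := by rw [h1]
        _ = c * (g * z * g⁻¹) := by group
    set K := N₁ ⊓ Subgroup.centralizer (M₁ : Set G) with hK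
    have hK2 : IsPGroup 2 K := (hG.centralizer_le (hM2.to_le inf_le_left) hM₁ne).to_le inf_le_right
    refine hub1 (hp.rad₁.core (K.map f) (Subgroup.map_le_iff_le_comap.2 inf_le_left) (hK2.map f) ?_
      ⟨u, ⟨?_, ?_⟩, hu⟩)
    · intro g hg
      obtain ⟨g₀, rfl⟩ := QuotientGroup.mk'_surjective Q g
      refine Subgroup.mem_normalizer_fintype ?_
      rintro _ ⟨k, ⟨hk1, hk2⟩, rfl⟩
      refine ⟨g₀ * k * g₀⁻¹, ⟨N₁.mul_mem (N₁.mul_mem hg hk1) (N₁.inv_mem hg), mem_centralizer'.2 fun z hz => ?_⟩,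
        by rw [map_mul, map_mul, map_inv]⟩
      have h := mem_centralizer'.1 hk2 _ (hKn g₀⁻¹ (N₁.inv_mem hg) z hz)
      rw [inv_inv] at h
      calc z * (g₀ * k * g₀⁻¹) = g₀ * ((g₀⁻¹ * z * g₀) * k) * g₀⁻¹ := by group
        _ = g₀ * k * g₀⁻¹ * z := by rw [h]; group
    · refine Subgroup.mem_comap.2 ?_
      rw [hu]
      exact hp.rad₁.T_le (hp.rad₂.le hub)
    · have huE : u ∈ E₂ := by rw [hE₂, Subgroup.mem_comap, hu]; exact hub
      exact mem_centralizer'.2 fun z hz => (hcent D₂ hp.rad₂.two hp.nat₂.nat hc₂ z hz u huE).symm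

theorem tiMod {G : Type u} [Group G] [Finite G] (hG : IsCIT G) (hO : pCore 2 G ≠ ⊥) : TIMod G :=
  tiMod_aux (Nat.card G + 1) (Nat.lt_succ_self _) hG hO

theorem hyp {G : Type u} [Group G] [Finite G] (hG : IsCIT G) : Hyp G := fun H _ hH => tiMod (hG.subgroup H) hH

end Cfsg.Agent.CIT
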