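/-
Coordinates of a natural module in a CIT group.

* `timod_quotient`        : `TIMod` passes to the quotient by the 2-core
* `quotient_equiv`        : `N(D)/D ≅ SL₂(K)`
* `Coords`                : coordinates on `C = D ∩ C(T)`, `D/C`, `T/D`
* `exists_coords`         : they exist
* `IsPair.q_le_four`      : in a pair `q ≤ 4`
-/
import Cfsg.Agent.Lib.CIT.Master
import Cfsg.Agent.Lib.FrobSystem.Main
import Cfsg.Agent.S3050
import Cfsg.Agent.Lib.Quadratic.TwoGen

set_option autoImplicit false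

open Cfsg
open scoped Pointwise

namespace Cfsg.Agent.CIT

open Quadratic (upperE upperE_val upperE_mul upperE_zero upperE_injective)

universe u

variable {G : Type u} [Group G] [Finite G]

theorem timod_quotient (hTI : TIMod G) (Q : Subgroup G) [Q.Normal] (hQ : Q = pCore 2 G) :
    TIMod (G ⧸ Q) := by
  haveI : Fact (Nat.Prime 2) := ⟨Nat.prime_two⟩
  intro P P' hne
  obtain ⟨P, rfl⟩ := Sylow.mapSurjective_surjective (QuotientGroup.mk'_surjective Q) 2 P
  obtain ⟨P', rfl⟩ := Sylow.mapSurjective_surjective (QuotientGroup.mk'_surjective Q) 2 P'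
  rw [Sylow.coe_mapSurjective, Sylow.coe_mapSurjective] at hne ⊢
  have hne' : (P : Subgroup G) ≠ P' := fun e => hne (e ▸ rfl)
  have hO : pCore 2 (G ⧸ Q) = ⊥ := by subst hQ; exact Cores.pCore_quotient_self 2 G
  rw [hO, eq_bot_iff]
  rintro _ ⟨⟨a, ha, rfl⟩, b, hb, hab⟩
  rw [Subgroup.mem_bot]
  have hba : b⁻¹ * a ∈ Q := by
    rw [← QuotientGroup.eq_one_iff]
    change QuotientGroup.mk' Q (b⁻¹ * a) = 1
    rw [map_mul, map_inv, hab, inv_mul_cancel]
  have haP' : a ∈ (P' : Subgroup G) := by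
    have := Subgroup.mul_mem _ hb (Cores.pCore_le_sylow P' (hQ ▸ hba))
    rwa [mul_inv_cancel_left] at this
  have : a ∈ (P : Subgroup G) ⊓ P' := ⟨ha, haP'⟩
  rw [hTI P P' hne', ← hQ] at this
  exact (QuotientGroup.eq_one_iff a).2 this

theorem commute_of_sq {A : Type*} [Group A] {a b : A} (ha : a * a = 1) (hb : b * b = 1)
    (hab : a * b * (a * b) = 1) : a * b = b * a := by
  calc a * b = (a * b) * ((a * b) * (a * b))⁻¹ := by rw [hab, inv_one, mul_one]
    _ = b⁻¹ * a⁻¹ := by group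
    _ = b * a := by rw [inv_eq_of_mul_eq_one_right hb, inv_eq_of_mul_eq_one_right ha]

/-- The quotient of the normaliser of a natural radical. -/
theorem quotient_equiv (hG : IsCIT G) (hO : pCore 2 G = ⊥) {D T : Subgroup G} {q : ℕ} (R : Rad D T)
    (nat : Natural D T q) (hq : 4 ≤ q) [(D.subgroupOf (Subgroup.normalizer (D : Set G))).Normal] :
    ∃ (K : Type) (_ : Field K) (_ : Fintype K), Fintype.card K = q ∧
      Nonempty (↥(Subgroup.normalizer (D : Set G)) ⧸ D.subgroupOf (Subgroup.normalizer (D : Set G)) ≃*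
        Matrix.SpecialLinearGroup (Fin 2) K) := by
  classical
  haveI : Fact (Nat.Prime 2) := ⟨Nat.prime_two⟩
  have hcore := R.pCore_eq
  obtain ⟨n, hn, hqn⟩ := nat.q_pow
  have hTN := R.T_le
  have hcardN := nat.card_N
  have hDN := R.D_le_N
  have hyp' := hyp hG _ (normalizer_ne_top hO R.two R.ne)
    (pCore_ne_bot_of_normalizes R.two R.ne hDN le_rfl)
  have hidx : D.relIndex T = q := nat.relIndex
  have hsq := nat.sq
  set N := Subgroup.normalizer (D : Set G) with hN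
  set Q := D.subgroupOf N with hQdef
  have hQ2 : IsPGroup 2 Q := R.two.comap_of_injective _ N.subtype_injective
  have hCIT : IsCIT (N ⧸ Q) := (hG.subgroup N).quotient Q hQ2
  have hTI : TIMod (N ⧸ Q) := timod_quotient hyp' Q hcore.symm
  have hOb : pCore 2 (N ⧸ Q) = ⊥ := by
    have h : pCore 2 (N ⧸ pCore 2 N) = ⊥ := Cores.pCore_quotient_self 2 N
    have e := QuotientGroup.quotientMulEquivOfEq hcore
    rw [← Cores.pCore_map_mulEquiv e 2, h, Subgroup.map_bot]
  set f := QuotientGroup.mk' Q with hf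
  set Tb := (T.subgroupOf N).map f with hTb
  have hTb2 : IsPGroup 2 Tb := (R.T_two.comap_of_injective _ N.subtype_injective).map _
  have hTbsq : ∀ x ∈ Tb, x * x = 1 := by
    rintro _ ⟨⟨a, haN⟩, ha, rfl⟩
    rw [← map_mul]
    exact (QuotientGroup.eq_one_iff _).2 (Subgroup.mem_subgroupOf.2 (hsq a ha))
  have hTbcard : Nat.card Tb = q := by
    have h := Cores.card_map_mul_ker f (T.subgroupOf N) (by
      rw [hf, QuotientGroup.ker_mk']; exact Subgroup.comap_mono R.le)
    have hker : Nat.card f.ker = Nat.card Q := by rw [hf, QuotientGroup.ker_mk']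
    rw [hker, Cores.card_subgroupOf hTN, show Nat.card Q = Nat.card D from Cores.card_subgroupOf hDN] at h
    have h2 := Subgroup.card_mul_index (D.subgroupOf T)
    rw [Cores.card_subgroupOf R.le, show (D.subgroupOf T).index = q from hidx, ← h, mul_comm] at h2
    exact (Nat.eq_of_mul_eq_mul_right Nat.card_pos h2).symm
  have hcardQ : Nat.card (N ⧸ Q) = (q + 1) * q * (q - 1) := by
    have h := Q.card_eq_card_quotient_mul_card_subgroup
    rw [hcardN, hQdef, Cores.card_subgroupOf hDN, mul_comm (Nat.card (↥N ⧸ _))] at h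
    exact (Nat.eq_of_mul_eq_mul_left Nat.card_pos h).symm
  have hodd : ∀ M : Subgroup (N ⧸ Q), M.Normal → Odd (Nat.card M) → M = ⊥ := by
    intro M hM hMo
    by_contra hM1
    obtain ⟨a, ha, ha1⟩ := (Subgroup.nontrivial_iff_exists_ne_one _).1
      (Finite.one_lt_card_iff_nontrivial.1 (show 1 < Nat.card Tb by omega))
    have hle : Tb ≤ Subgroup.zpowers a := fun b hb => by
      rcases eq_or_ne b 1 with rfl | hb1
      · exact one_mem _
      · have e := eq_of_commute_involutions hCIT hM hMo hM1 (Involution.orderOf_of_sq (hTbsq a ha) ha1)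
          (Involution.orderOf_of_sq (hTbsq b hb) hb1)
          (commute_of_sq (hTbsq a ha) (hTbsq b hb) (hTbsq _ (Tb.mul_mem ha hb)))
        rw [← e]; exact Subgroup.mem_zpowers a
    have h1 := Subgroup.card_le_of_le hle
    rw [Nat.card_zpowers, Involution.orderOf_of_sq (hTbsq a ha) ha1] at h1
    omega
  have h2 : 2 ∣ Nat.card (N ⧸ Q) := by
    rw [hcardQ, hqn]
    exact Dvd.dvd.mul_right (Dvd.dvd.mul_left (dvd_pow_self 2 (by omega)) _) _
  obtain ⟨Sb, hSb⟩ := hTb2.exists_le_sylow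
  obtain ⟨E, -⟩ := exists_evenTI hCIT hTI hOb Sb h2 hodd
  haveI := E.isSimple
  have hns : InvertedOdd.NoSolvableNormal (N ⧸ Q) := fun M hM hs => by
    refine hM.eq_bot_or_eq_top.resolve_right fun h => ?_
    subst h
    haveI := hs
    have hGs : Group.IsSolvable (N ⧸ Q) :=
      Group.isSolvable_of_surjective (f := (⊤ : Subgroup (N ⧸ Q)).subtype) fun x => ⟨⟨x, trivial⟩, rfl⟩
    have hc := IsSimpleGroup.comm_iff_isSolvable.2 hGs
    exact E.not_normal ⟨fun x hx g => by rwa [hc g x, mul_inv_cancel_right]⟩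
  obtain ⟨-, hcl⟩ := FrobSystem.classify_tiHyp hns (M := E.N) (F := E.H)
    ⟨E.H_le_N, fun m hm x hx => (Subgroup.mem_normalizer_iff.1 hm x).1 hx,
      fun a _ haH x hx h => by_contra fun hx1 => haH (E.mem_of_commute hx hx1 h.symm),
      fun g hg x hx hgx => by_contra fun hx1 => hg (E.ti g x hx hx1 hgx),
      (by obtain ⟨i, hi, hio⟩ := E.exists_inv; exact ⟨i, E.inv_mem hio hi, hio⟩), E.N_ne_top⟩
  rcases hcl with ⟨K, iK, iF, -, ⟨e⟩⟩ | ⟨⟨S⟩⟩
  · refine ⟨K, iK, iF, ?_, ⟨e⟩⟩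
    have h := Nat.card_congr e.toEquiv
    rw [hcardQ, GLOrder.card_SL_two, Nat.card_eq_fintype_card (α := K)] at h
    have hK := Fintype.one_lt_card (α := K)
    obtain ⟨a, ha⟩ : ∃ a, q = a + 1 := ⟨q - 1, by omega⟩
    obtain ⟨b, hb⟩ : ∃ b, Fintype.card K = b + 1 := ⟨Fintype.card K - 1, by omega⟩
    rw [ha, hb, show (b + 1) ^ 2 - 1 = (b + 2) * b by rw [Nat.sub_eq_of_eq_add]; ring,
      show a + 1 - 1 = a from rfl] at h
    rcases lt_trichotomy a b with hlt | rfl | hlt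
    · exfalso
      have : (a + 1 + 1) * (a + 1) * a < (b + 1) * ((b + 2) * b) := by
        calc (a + 1 + 1) * (a + 1) * a < (b + 1 + 1) * (b + 1) * b := by gcongr
          _ = _ := by ring
      omega
    · rw [ha, hb]
    · exfalso
      have : (b + 1) * ((b + 2) * b) < (a + 1 + 1) * (a + 1) * a := by
        calc (b + 1) * ((b + 2) * b) = (b + 1 + 1) * (b + 1) * b := by ring
          _ < _ := by gcongr
      omega
  · exfalso
    obtain ⟨P, hP⟩ := S.hU2.exists_le_sylow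
    -- every Sylow 2-subgroup is conjugate to the elementary abelian `Tb`
    have hSbT : (Sb : Subgroup (N ⧸ Q)) = Tb := by
      refine (Subgroup.eq_of_le_of_card_ge hSb ?_).symm
      rw [hTbcard]
      obtain ⟨j, hj⟩ := IsPGroup.iff_card.1 Sb.2
      have hd : 2 ^ j ∣ (q + 1) * q * (q - 1) := hj ▸ hcardQ ▸ Subgroup.card_subgroup_dvd_card _
      have hcop : ∀ m : ℕ, Odd m → Nat.Coprime (2 ^ j) m := fun m hm =>
        ((Nat.coprime_two_left.2 hm)).pow_left j
      have hqe : Even q := by rw [hqn]; exact (even_two.pow_of_ne_zero (by omega))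
      have h1 := (hcop (q - 1) (Nat.Even.sub_odd (by omega) hqe odd_one)).dvd_of_dvd_mul_right hd
      have h2 := (hcop (q + 1) hqe.add_one).dvd_of_dvd_mul_left h1
      exact hj ▸ Nat.le_of_dvd (by omega) h2
    obtain ⟨g, rfl⟩ := MulAction.exists_smul_eq (N ⧸ Q) Sb P
    obtain ⟨x, hx, y, hy, hxy⟩ := S.hna
    have hx' := hP hx
    have hy' := hP hy
    rw [Sylow.coe_subgroup_smul, hSbT] at hx' hy'
    obtain ⟨x', hx'', rfl⟩ := hx'
    obtain ⟨y', hy'', rfl⟩ := hy'
    refine hxy ?_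
    exact (map_mul _ x' y').symm.trans ((congrArg _ (commute_of_sq (hTbsq _ hx'') (hTbsq _ hy'')
      (hTbsq _ (Tb.mul_mem hx'' hy'')))).trans (map_mul _ y' x'))

/-- Coordinates: `σ` on `D ∩ C(T)`, `δ` on `D` modulo it, `τ` on `T/D`. -/
structure Coords (D T : Subgroup G) (K : Type) [Field K] where
  /-- The fixed points. -/
  σ : K → G
  /-- The rest of the module. -/
  δ : G → K
  /-- The Sylow 2-subgroup modulo the module. -/
  τ : G → K
  σ_add : ∀ x y, σ (x + y) = σ x * σ y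
  σ_inj : Function.Injective σ
  σ_mem : ∀ x, σ x ∈ D ⊓ Subgroup.centralizer (T : Set G)
  σ_surj : ∀ c ∈ D ⊓ Subgroup.centralizer (T : Set G), ∃ x, σ x = c
  δ_mul : ∀ a ∈ D, ∀ b ∈ D, δ (a * b) = δ a + δ b
  δ_zero : ∀ a ∈ D, δ a = 0 ↔ a ∈ Subgroup.centralizer (T : Set G)
  δ_surj : ∀ k, ∃ a ∈ D, δ a = k
  τ_mul : ∀ a ∈ T, ∀ b ∈ T, τ (a * b) = τ a + τ b
  τ_zero : ∀ a ∈ T, τ a = 0 ↔ a ∈ D
  τ_surj : ∀ k, ∃ a ∈ T, τ a = k
  act : ∀ g, g ∈ Subgroup.normalizer (D : Set G) → g ∈ Subgroup.normalizer (T : Set G) →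
    ∃ μ : K, μ ≠ 0 ∧ (∀ x, g * σ x * g⁻¹ = σ (μ * x)) ∧ (∀ d ∈ D, δ (g * d * g⁻¹) = μ⁻¹ * δ d) ∧
      ∀ t ∈ T, τ (g * t * g⁻¹) = μ * μ * τ t
  torus : ∀ μ : K, μ ≠ 0 → ∃ g, g ∈ Subgroup.normalizer (D : Set G) ∧
    g ∈ Subgroup.normalizer (T : Set G) ∧ ∀ x, g * σ x * g⁻¹ = σ (μ * x)

theorem exists_coords (hG : IsCIT G) (hO : pCore 2 G = ⊥) {D T : Subgroup G} {q : ℕ} (R : Rad D T)
    (nat : Natural D T q) (el : D = omegaZ D) (hq : 4 ≤ q) :
    ∃ (K : Type) (_ : Field K) (_ : Fintype K), Fintype.card K = q ∧ Nonempty (Coords D T K) := by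
  classical
  haveI : Fact (Nat.Prime 2) := ⟨Nat.prime_two⟩
  haveI : (D.subgroupOf (Subgroup.normalizer (D : Set G))).Normal :=
    Cores.subgroupOf_normal_of_le_normalizer le_rfl
  obtain ⟨K, iK, iF, hK, ⟨e⟩⟩ := quotient_equiv hG hO R nat hq
  refine ⟨K, iK, iF, hK, ?_⟩
  obtain ⟨n, hn, hqn⟩ := nat.q_pow
  have hn2 : 2 ≤ n := by
    by_contra h
    have : n = 1 := by omega
    rw [this] at hqn
    omega
  haveI : CharP K 2 := charP_of_card_eq_prime_pow (hK.trans hqn)
  have hDN := R.D_le_N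
  have hTN := R.T_le
  have hcent := R.centralizer_le hG
  have hW := nat.card_W
  rw [← el] at hW
  have hcardN := nat.card_N
  have hfixC := nat.card_fix
  rw [← el] at hfixC
  have hrel := nat.relIndex
  set N := Subgroup.normalizer (D : Set G) with hN
  set Q := D.subgroupOf N with hQdef
  obtain ⟨x, hx⟩ := exists_prime_orderOf_dvd_card' (hp := ⟨Nat.prime_three⟩) (G := N) 3 (by
    rw [hcardN]; exact Dvd.dvd.mul_left (three_dvd q) _)
  have hfpf : ∀ d ∈ Q, x * d * x⁻¹ = d → d = 1 := fun d hd h => by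
    have h' : (x : G) * d * (x : G)⁻¹ = d := congrArg Subtype.val h
    rw [mul_inv_eq_iff_eq_mul] at h'
    exact Subtype.ext (hG.fpf' R.two hd (fun e => by
      have := Subgroup.orderOf_coe x
      rw [e, orderOf_one, hx] at this
      omega) (by rw [Subgroup.orderOf_coe, hx]; decide) h')
  obtain ⟨-, k, V, hV, -, hsup⟩ := S3050.result Q (R.two.comap_of_injective _ N.subtype_injective) n hn2
    K (hK.trans hqn) e x hx hfpf
  have hQcard : Nat.card Q = q ^ 2 := by rw [hQdef, Cores.card_subgroupOf hDN, hW]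
  obtain ⟨i⟩ : Nonempty (Fin k) := by
    rcases k with _ | k
    · exfalso
      rw [iSup_of_empty] at hsup
      rw [← hsup, Subgroup.card_bot] at hQcard
      have : 4 * 4 ≤ q ^ 2 := by rw [pow_two]; exact Nat.mul_le_mul hq hq
      omega
    · exact ⟨0⟩
  obtain ⟨hVQ, -, hact⟩ := hV i
  obtain ⟨-, -, ρ₀, ψ₀, hρ₀, hψ₀, hker, heq⟩ := hact
  have hVeq : V i = Q := by
    refine Subgroup.eq_of_le_of_card_ge hVQ ?_
    rw [hQcard]
    have h := Nat.card_le_card_of_surjective ψ₀ hψ₀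
    rw [Nat.card_congr Multiplicative.toAdd, Nat.card_fun, Nat.card_fin,
      Nat.card_eq_fintype_card (α := K), hK] at h
    exact h
  -- the coordinates on `D`
  have hVmem : ∀ d ∈ D, ∃ u : V i, ((u : N) : G) = d := fun d hd =>
    ⟨⟨⟨d, hDN hd⟩, hVeq.ge (Subgroup.mem_subgroupOf.2 hd)⟩, rfl⟩
  have hVD : ∀ u : V i, ((u : N) : G) ∈ D := fun u => hVeq.le u.2
  let ψ : V i → Fin 2 → K := fun u => Multiplicative.toAdd (ψ₀ u)
  have hψinj : Function.Injective ψ₀ := (injective_iff_map_eq_one ψ₀).2 fun u hu =>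
    Subtype.ext (Subgroup.mem_bot.1 ((hker u).1 hu))
  let ρ' : N →* Matrix.SpecialLinearGroup (Fin 2) K :=
    ρ₀.comp ((MonoidHom.id N).codRestrict ⊤ fun x => Subgroup.mem_top x)
  have hρsurj : Function.Surjective ρ' := fun y => by
    obtain ⟨⟨g, hgt⟩, hg⟩ := (MonoidHom.range_eq_top.1 hρ₀) y
    exact ⟨g, hg⟩
  have hconj : ∀ (g : N) (u w : V i), ((w : N) : G) = g * ((u : N) : G) * (g : G)⁻¹ →
      ψ w = (ρ' g).1.mulVec (ψ u) := fun g u w h => by
    obtain ⟨w', hw', hψw⟩ := heq ⟨g, trivial⟩ u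
    have : w = w' := Subtype.ext (Subtype.ext (h.trans (congrArg Subtype.val hw').symm))
    rw [this]
    exact hψw
  have hρone : ∀ g : N, ρ' g = 1 ↔ (g : G) ∈ D := by
    have key : ∀ g : N, ρ' g = 1 → ∀ d ∈ D, (g : G) * d = d * g := fun g hg d hd => by
      obtain ⟨u, hu⟩ := hVmem d hd
      obtain ⟨w, hw⟩ := hVmem ((g : G) * d * (g : G)⁻¹) ((Subgroup.mem_normalizer_iff.1 g.2 d).1 hd)
      have h := hconj g u w (by rw [hw, hu])
      rw [hg] at h
      have he : w = u := hψinj (Multiplicative.toAdd.injective (h.trans (Matrix.one_mulVec _)))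
      rw [he, hu] at hw
      exact mul_inv_eq_iff_eq_mul.1 hw.symm
    intro g
    refine ⟨fun hg => hcent (mem_centralizer'.2 fun d hd => (key g hg d hd).symm), fun hg => ?_⟩
    refine Matrix.SpecialLinearGroup.ext _ _ fun a b => ?_
    have hid : ∀ v : Fin 2 → K, (ρ' g).1.mulVec v = v := fun v => by
      obtain ⟨u, hu⟩ := hψ₀ (Multiplicative.ofAdd v)
      have h := hconj g u u (by
        rw [mul_assoc, eq_comm]
        have hc : ((u : N) : G) * (g : G) = g * ((u : N) : G) :=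
          omegaZ_comm (el.le hg) (hVD u)
        rw [← mul_assoc, ← hc, mul_inv_cancel_right])
      have hv : ψ u = v := by show Multiplicative.toAdd (ψ₀ u) = v; rw [hu]; rfl
      rw [hv] at h
      exact h.symm
    have := congrFun (hid (Pi.single b 1)) a
    rw [Matrix.mulVec_single_one] at this
    rw [Matrix.SpecialLinearGroup.coe_one, Matrix.one_apply]
    simpa [Pi.single_apply] using this
  -- move the Sylow subgroup to the unitriangular matrices
  let U : Subgroup (Matrix.SpecialLinearGroup (Fin 2) K) :=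
    { carrier := Set.range (upperE : K → Matrix.SpecialLinearGroup (Fin 2) K)
      mul_mem' := by rintro _ _ ⟨a, rfl⟩ ⟨b, rfl⟩; exact ⟨a + b, (upperE_mul a b).symm⟩
      one_mem' := ⟨0, upperE_zero⟩
      inv_mem' := by
        rintro _ ⟨a, rfl⟩
        exact ⟨-a, (inv_eq_of_mul_eq_one_right (by rw [upperE_mul, add_neg_cancel, upperE_zero])).symm⟩ }
  have hUcard : Nat.card U = q := by
    rw [← hK, ← Nat.card_eq_fintype_card (α := K)]
    exact (Nat.card_congr (Equiv.ofInjective _ upperE_injective)).symm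
  set Tb := (T.subgroupOf N).map ρ' with hTb
  have hTbcard : Nat.card Tb = q := by
    have hkerρ : ρ'.ker = Q := by ext g; exact hρone g
    have h := Cores.card_map_mul_ker ρ' (T.subgroupOf N) (by rw [hkerρ, hQdef]; exact Subgroup.comap_mono R.le)
    rw [hkerρ, hQdef, Cores.card_subgroupOf hTN, Cores.card_subgroupOf hDN] at h
    have h2 := Subgroup.card_mul_index (D.subgroupOf T)
    rw [Cores.card_subgroupOf R.le, show (D.subgroupOf T).index = q from hrel, ← h, mul_comm] at h2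
    exact (Nat.eq_of_mul_eq_mul_right Nat.card_pos h2).symm
  have hqe : Even q := by rw [hqn]; exact (even_two.pow_of_ne_zero (by omega))
  have hndvd : ∀ P : Subgroup (Matrix.SpecialLinearGroup (Fin 2) K), Nat.card P = q → ¬ 2 ∣ P.index := by
    intro P hP hd
    have h := P.card_mul_index
    rw [hP, GLOrder.card_SL_two, Nat.card_eq_fintype_card (α := K), hK] at h
    rw [Nat.eq_of_mul_eq_mul_left (by omega) h] at hd
    obtain ⟨j, hj⟩ := hqe
    obtain ⟨m, hm⟩ := hd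
    have h4 : q ^ 2 = 4 * (j * j) := by rw [hj]; ring
    rw [h4] at hm
    have : 1 ≤ j * j := Nat.mul_le_mul (show 1 ≤ j by omega) (show 1 ≤ j by omega)
    omega
  have htwo : ∀ P : Subgroup (Matrix.SpecialLinearGroup (Fin 2) K), Nat.card P = q → IsPGroup 2 P :=
    fun P hP => IsPGroup.of_card (n := n) (hP.trans hqn)
  obtain ⟨M, hM⟩ := MulAction.exists_smul_eq (Matrix.SpecialLinearGroup (Fin 2) K)
    ((htwo Tb hTbcard).toSylow (hndvd Tb hTbcard)) ((htwo U hUcard).toSylow (hndvd U hUcard))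
  have hMU : Tb.map (MulAut.conj M).toMonoidHom = U := by
    have h := congrArg (fun S : Sylow 2 _ => (S : Subgroup (Matrix.SpecialLinearGroup (Fin 2) K))) hM
    simp only [Sylow.coe_subgroup_smul, IsPGroup.toSylow_coe] at h
    exact h
  let ρ : N →* Matrix.SpecialLinearGroup (Fin 2) K := (MulAut.conj M).toMonoidHom.comp ρ'
  have hρT : ∀ t : N, (t : G) ∈ T → ∃ a, ρ t = upperE a := fun t ht => by
    have : ρ t ∈ U := hMU.le ⟨ρ' t, ⟨t, ht, rfl⟩, rfl⟩
    obtain ⟨a, ha⟩ := this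
    exact ⟨a, ha.symm⟩
  have hρT' : ∀ a, ∃ t : N, (t : G) ∈ T ∧ ρ t = upperE a := fun a => by
    obtain ⟨_, ⟨t, ht, rfl⟩, h⟩ := hMU.ge (⟨a, rfl⟩ : upperE a ∈ U)
    exact ⟨t, ht, h⟩
  let φ : V i → Fin 2 → K := fun u => M.1.mulVec (ψ u)
  have hφconj : ∀ (g : N) (u w : V i), ((w : N) : G) = g * ((u : N) : G) * (g : G)⁻¹ →
      φ w = (ρ g).1.mulVec (φ u) := fun g u w h => by
    have e : (ρ g).1 * M.1 = M.1 * (ρ' g).1 := by
      rw [← Matrix.SpecialLinearGroup.coe_mul, ← Matrix.SpecialLinearGroup.coe_mul]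
      exact congrArg Subtype.val (show M * ρ' g * M⁻¹ * M = M * ρ' g by group)
    show M.1.mulVec (ψ w) = (ρ g).1.mulVec (M.1.mulVec (ψ u))
    rw [hconj g u w h, Matrix.mulVec_mulVec, Matrix.mulVec_mulVec, e]
  have hMM : M⁻¹.1 * M.1 = 1 := by
    rw [← Matrix.SpecialLinearGroup.coe_mul, inv_mul_cancel, Matrix.SpecialLinearGroup.coe_one]
  have hφinj : Function.Injective φ := fun u w h => by
    have h' := congrArg (M⁻¹.1.mulVec) h
    rw [Matrix.mulVec_mulVec, Matrix.mulVec_mulVec, hMM, Matrix.one_mulVec, Matrix.one_mulVec] at h'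
    exact hψinj (Multiplicative.toAdd.injective h')
  have hφsurj : Function.Surjective φ := fun v => by
    obtain ⟨u, hu⟩ := hψ₀ (Multiplicative.ofAdd (M⁻¹.1.mulVec v))
    refine ⟨u, ?_⟩
    show M.1.mulVec (Multiplicative.toAdd (ψ₀ u)) = v
    rw [hu, toAdd_ofAdd, Matrix.mulVec_mulVec, ← Matrix.SpecialLinearGroup.coe_mul, mul_inv_cancel,
      Matrix.SpecialLinearGroup.coe_one, Matrix.one_mulVec]
  have hφmul : ∀ u w : V i, φ (u * w) = φ u + φ w := fun u w => by
    show M.1.mulVec (Multiplicative.toAdd (ψ₀ (u * w))) = _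
    rw [map_mul, toAdd_mul, Matrix.mulVec_add]
  -- the fixed points
  have hfix : ∀ u : V i, ((u : N) : G) ∈ Subgroup.centralizer (T : Set G) ↔ φ u 1 = 0 := by
    intro u
    constructor
    · intro hu
      obtain ⟨t, ht, htρ⟩ := hρT' 1
      have h := hφconj t u u (by rw [mem_centralizer'.1 hu t ht, mul_inv_cancel_right])
      rw [htρ, upperE_val] at h
      have := congrFun h 0
      simpa [Matrix.mulVec, dotProduct, Fin.sum_univ_two] using this
    · intro hu
      refine mem_centralizer'.2 fun t ht => ?_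
      obtain ⟨a, ha⟩ := hρT ⟨t, hTN ht⟩ ht
      obtain ⟨w, hw⟩ := hVmem (t * ((u : N) : G) * t⁻¹) ((Subgroup.mem_normalizer_iff.1 (hTN ht) _).1 (hVD u))
      have h := hφconj ⟨t, hTN ht⟩ u w hw
      rw [ha, upperE_val] at h
      have he : w = u := hφinj (by
        rw [h]
        funext j
        fin_cases j <;> simp [Matrix.mulVec, dotProduct, Fin.sum_univ_two, hu])
      rw [he] at hw
      exact mul_inv_eq_iff_eq_mul.1 hw.symm
  choose vv hvv using fun x : K => hφsurj ![x, 0]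
  let δ : G → K := fun d => if h : d ∈ D then φ (hVmem d h).choose 1 else 0
  have hδ : ∀ u : V i, δ ((u : N) : G) = φ u 1 := fun u => by
    show dite _ _ _ = _
    rw [dif_pos (hVD u)]
    congr 2
    exact Subtype.ext (Subtype.ext (hVmem _ (hVD u)).choose_spec)
  let τ : G → K := fun t => if h : t ∈ T then (hρT ⟨t, hTN h⟩ h).choose else 0
  have hτ : ∀ t (h : t ∈ T), ρ ⟨t, hTN h⟩ = upperE (τ t) := fun t h => by
    show _ = upperE (dite _ _ _)
    rw [dif_pos h]
    exact (hρT ⟨t, hTN h⟩ h).choose_spec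
  refine ⟨{
    σ := fun x => ((vv x : N) : G)
    δ := δ
    τ := τ
    σ_add := fun x y => ?_
    σ_inj := fun x y h => ?_
    σ_mem := fun x => ⟨hVD _, (hfix _).2 (by rw [hvv]; rfl)⟩
    σ_surj := fun c hc => ?_
    δ_mul := fun a ha b hb => ?_
    δ_zero := fun a ha => ?_
    δ_surj := fun c => ?_
    τ_mul := fun a ha b hb => ?_
    τ_zero := fun a ha => ?_
    τ_surj := fun c => ?_
    act := fun g hg hgT => ?_
    torus := fun μ hμ => ?_ }⟩
  · have : vv (x + y) = vv x * vv y := hφinj (by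
      rw [hφmul, hvv, hvv, hvv]; funext j; fin_cases j <;> simp)
    rw [this]; rfl
  · have h1 : vv x = vv y := Subtype.ext (Subtype.ext h)
    simpa [hvv] using congrFun (congrArg φ h1) 0
  · obtain ⟨u, hu⟩ := hVmem c hc.1
    refine ⟨φ u 0, ?_⟩
    have : vv (φ u 0) = u := hφinj (by
      rw [hvv]
      funext j
      fin_cases j
      · rfl
      · exact ((hfix u).1 (hu.symm ▸ hc.2)).symm)
    rw [this, hu]
  · obtain ⟨u, rfl⟩ := hVmem a ha
    obtain ⟨w, rfl⟩ := hVmem b hb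
    rw [hδ, hδ, show ((u : N) : G) * ((w : N) : G) = (((u * w : V i) : N) : G) from rfl, hδ, hφmul]
    rfl
  · obtain ⟨u, rfl⟩ := hVmem a ha
    rw [hδ]; exact (hfix u).symm
  · obtain ⟨u, hu⟩ := hφsurj ![0, c]
    exact ⟨_, hVD u, by rw [hδ, hu]; rfl⟩
  · apply upperE_injective
    rw [← upperE_mul, ← hτ a ha, ← hτ b hb, ← hτ (a * b) (T.mul_mem ha hb), ← map_mul]
    rfl
  · rw [← upperE_injective.eq_iff, upperE_zero, ← hτ a ha, show (a ∈ D) = (((⟨a, hTN ha⟩ : N) : G) ∈ D) from rfl,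
      ← hρone]
    exact (MulAut.conj M).map_eq_one_iff
  · obtain ⟨t, ht, htρ⟩ := hρT' c
    refine ⟨t, ht, upperE_injective ?_⟩
    rw [← hτ _ ht, ← htρ]
  · -- elements normalising both are upper triangular
    set g' : N := ⟨g, hg⟩ with hg'
    have hlow : (ρ g').1 1 0 = 0 := by
      obtain ⟨w, hw⟩ := hVmem (g * ((vv 1 : N) : G) * g⁻¹) ((Subgroup.mem_normalizer_iff.1 hg _).1 (hVD _))
      have hwC : ((w : N) : G) ∈ Subgroup.centralizer (T : Set G) := by
        rw [hw]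
        refine mem_centralizer'.2 fun t ht => ?_
        have h1 := mem_centralizer'.1 ((hfix (vv 1)).2 (by rw [hvv]; rfl)) _
          ((Subgroup.mem_normalizer_iff''.1 hgT t).1 ht)
        calc t * (g * ((vv 1 : N) : G) * g⁻¹) = g * ((g⁻¹ * t * g) * ((vv 1 : N) : G)) * g⁻¹ := by group
          _ = g * ((vv 1 : N) : G) * g⁻¹ * t := by rw [h1]; group
      have h := congrFun (hφconj g' (vv 1) w hw) 1
      rw [(hfix w).1 hwC, hvv] at h
      simpa [Matrix.mulVec, dotProduct, Fin.sum_univ_two] using h.symm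
    have hdet : (ρ g').1 0 0 * (ρ g').1 1 1 = 1 := by
      have h := (ρ g').2
      rw [Matrix.det_fin_two, hlow, mul_zero, sub_zero] at h
      exact h
    set μ := (ρ g').1 0 0 with hμdef
    have hμ : μ ≠ 0 := left_ne_zero_of_mul_eq_one hdet
    have hinv : (ρ g').1 1 1 = μ⁻¹ := eq_inv_of_mul_eq_one_right hdet
    refine ⟨μ, hμ, fun x => ?_, fun d hd => ?_, fun t ht => ?_⟩
    · obtain ⟨w, hw⟩ := hVmem (g * ((vv x : N) : G) * g⁻¹) ((Subgroup.mem_normalizer_iff.1 hg _).1 (hVD _))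
      have : w = vv (μ * x) := hφinj (by
        rw [hφconj g' (vv x) w hw, hvv, hvv]
        funext j
        fin_cases j <;> simp [Matrix.mulVec, dotProduct, Fin.sum_univ_two, hlow, hμdef])
      rw [← hw, this]
    · obtain ⟨u, rfl⟩ := hVmem d hd
      obtain ⟨w, hw⟩ := hVmem (g * ((u : N) : G) * g⁻¹) ((Subgroup.mem_normalizer_iff.1 hg _).1 (hVD _))
      rw [← hw, hδ, hδ, hφconj g' u w hw]
      simp [Matrix.mulVec, dotProduct, Fin.sum_univ_two, hlow, hinv]
    · have ht' : g * t * g⁻¹ ∈ T := (Subgroup.mem_normalizer_iff.1 hgT t).1 ht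
      have h1 : ρ (⟨g * t * g⁻¹, hTN ht'⟩ : N) * ρ g' = ρ g' * ρ ⟨t, hTN ht⟩ := by
        rw [← map_mul, ← map_mul]
        exact congrArg ρ (Subtype.ext (show g * t * g⁻¹ * g = g * t by group))
      rw [hτ _ ht', hτ _ ht] at h1
      have h2 := congrFun (congrFun (congrArg Subtype.val h1) 0) 1
      rw [Matrix.SpecialLinearGroup.coe_mul, Matrix.SpecialLinearGroup.coe_mul, upperE_val, upperE_val] at h2
      simp [Matrix.mul_apply, Fin.sum_univ_two, hinv] at h2
      have h3 : τ (g * t * g⁻¹) * μ⁻¹ = μ * τ t := by linear_combination h2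
      rw [← mul_inv_cancel_right₀ (inv_ne_zero hμ) (τ (g * t * g⁻¹)), h3, inv_inv]
      ring
  · obtain ⟨M₀, hM₀⟩ : ∃ y : Matrix.SpecialLinearGroup (Fin 2) K, y.1 = !![μ, 0; 0, μ⁻¹] :=
      ⟨⟨!![μ, 0; 0, μ⁻¹], by simp [Matrix.det_fin_two_of, hμ]⟩, rfl⟩
    obtain ⟨g, hgρ'⟩ := hρsurj (M⁻¹ * M₀ * M)
    have hgρ : ρ g = M₀ := by
      show M * ρ' g * M⁻¹ = M₀
      rw [hgρ']; group
    refine ⟨g, g.2, Subgroup.mem_normalizer_fintype fun t ht => ?_, fun x => ?_⟩
    · obtain ⟨a, ha⟩ := hρT ⟨t, hTN ht⟩ ht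
      obtain ⟨t', ht', ht'ρ⟩ := hρT' (μ * μ * a)
      have h1 : ρ (g * ⟨t, hTN ht⟩ * g⁻¹ * t'⁻¹) = 1 := by
        rw [map_mul, map_mul, map_mul, map_inv, map_inv, hgρ, ha, ht'ρ, mul_inv_eq_one, mul_inv_eq_iff_eq_mul]
        apply Subtype.ext
        rw [Matrix.SpecialLinearGroup.coe_mul, Matrix.SpecialLinearGroup.coe_mul, hM₀, upperE_val, upperE_val]
        ext r s
        fin_cases r <;> fin_cases s <;> simp [Matrix.mul_apply, Fin.sum_univ_two, hμ] <;> field_simp
      have h2 : ((g * ⟨t, hTN ht⟩ * g⁻¹ * t'⁻¹ : N) : G) ∈ D :=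
        (hρone _).1 ((MulAut.conj M).map_eq_one_iff.1 h1)
      have h3 := T.mul_mem (R.le h2) ht'
      simpa [mul_assoc] using h3
    · obtain ⟨w, hw⟩ := hVmem ((g : G) * ((vv x : N) : G) * (g : G)⁻¹)
        ((Subgroup.mem_normalizer_iff.1 g.2 _).1 (hVD _))
      have : w = vv (μ * x) := hφinj (by
        rw [hφconj g (vv x) w hw, hgρ, hM₀, hvv, hvv]
        funext j
        fin_cases j <;> simp [Matrix.mulVec, dotProduct, Fin.sum_univ_two])
      rw [← hw, this]

/-- In a pair `q ≤ 4`. -/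
theorem IsPair.q_le_four (hG : IsCIT G) (hO : pCore 2 G = ⊥) {D₁ D₂ T : Subgroup G} {q : ℕ}
    (hp : IsPair D₁ D₂ T q) : q ≤ 4 := by
  classical
  by_contra hq
  obtain ⟨K, iK, iF, hK, ⟨A⟩⟩ := exists_coords hG hO hp.rad₁ hp.nat₁.nat hp.el₁ (by omega)
  obtain ⟨L, iL, iFL, hL, ⟨B⟩⟩ := exists_coords hG hO hp.rad₂ hp.nat₂.nat hp.el₂ (by omega)
  obtain ⟨n, hn, hqn⟩ := hp.nat₁.nat.q_pow
  haveI : Fact (Nat.Prime 2) := ⟨Nat.prime_two⟩
  haveI : CharP K 2 := charP_of_card_eq_prime_pow (hK.trans hqn)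
  set C := Subgroup.centralizer (T : Set G) with hC
  have hC2 : D₁ ⊓ D₂ = D₂ ⊓ C := hp.inf_eq.trans (by rw [← hp.el₂])
  have hC1 : D₁ ⊓ C = D₁ ⊓ D₂ := by
    refine (Subgroup.eq_of_le_of_card_ge ?_ (le_of_eq ?_)).symm
    · exact le_inf inf_le_left (hC2.le.trans inf_le_right)
    · rw [hC2]
      have h1 := hp.nat₁.nat.card_fix
      have h2 := hp.nat₂.nat.card_fix
      rw [← hp.el₁] at h1
      rw [← hp.el₂] at h2
      exact h1.trans h2.symm
  -- the fixed points in both coordinates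
  choose η hη using fun x : K => B.σ_surj (A.σ x) (by
    have h := A.σ_mem x
    rw [hC1, hC2] at h
    exact h)
  have hηadd : ∀ x y, η (x + y) = η x + η y := fun x y => B.σ_inj (by
    rw [hη, A.σ_add, B.σ_add, hη, hη])
  have hηinj : Function.Injective η := fun x y h => A.σ_inj (by rw [← hη x, ← hη y, h])
  -- `D₂/C` in both coordinates
  have hsurj : ∀ k : K, ∃ d ∈ D₂, A.τ d = k := by
    let f : D₂ →* Multiplicative K := MonoidHom.mk' (fun d => Multiplicative.ofAdd (A.τ (d : G)))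
      (fun a b => by rw [Subgroup.coe_mul, A.τ_mul _ (hp.rad₂.le a.2) _ (hp.rad₂.le b.2), ofAdd_add])
    have hker : f.ker = (D₂ ⊓ C).subgroupOf D₂ := by
      ext d
      rw [MonoidHom.mem_ker, Subgroup.mem_subgroupOf, ← hC2, Subgroup.mem_inf]
      show Multiplicative.ofAdd (A.τ (d : G)) = 1 ↔ _
      rw [ofAdd_eq_one, A.τ_zero _ (hp.rad₂.le d.2)]
      exact ⟨fun h => ⟨h, d.2⟩, fun h => h.1⟩
    have h1 : Nat.card f.ker * Nat.card f.range = Nat.card D₂ := by
      rw [← Subgroup.index_ker, Subgroup.card_mul_index]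
    have hW := hp.nat₂.nat.card_W
    have hF := hp.nat₂.nat.card_fix
    rw [← hp.el₂] at hW hF
    rw [hker, Cores.card_subgroupOf inf_le_left, hF, hW, pow_two] at h1
    have h2 : f.range = ⊤ := Subgroup.eq_top_of_card_eq _ (by
      rw [Nat.eq_of_mul_eq_mul_left (by omega) h1, Nat.card_congr Multiplicative.toAdd,
        Nat.card_eq_fintype_card, hK])
    intro k
    obtain ⟨d, hd⟩ := h2.ge (Subgroup.mem_top (Multiplicative.ofAdd k))
    exact ⟨d, d.2, Multiplicative.ofAdd.injective hd⟩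
  choose dd hdd hdd' using hsurj
  let θ : K → L := fun k => B.δ (dd k)
  have hθinj : Function.Injective θ := fun a b h => by
    have h' : B.δ (dd a * dd b) = 0 := by
      rw [B.δ_mul _ (hdd a) _ (hdd b)]
      show θ a + θ b = 0
      haveI : CharP L 2 := charP_of_card_eq_prime_pow (hL.trans hqn)
      rw [h, CharTwo.add_self_eq_zero]
    have h2 := (B.δ_zero _ (D₂.mul_mem (hdd a) (hdd b))).1 h'
    have h3 : dd a * dd b ∈ D₁ ⊓ D₂ := hC2.ge ⟨D₂.mul_mem (hdd a) (hdd b), h2⟩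
    have h4 := (A.τ_zero _ (hp.rad₂.le (D₂.mul_mem (hdd a) (hdd b)))).2 h3.1
    rw [A.τ_mul _ (hp.rad₂.le (hdd a)) _ (hp.rad₂.le (hdd b)), hdd', hdd', CharTwo.add_eq_zero] at h4
    exact h4
  have hθadd : ∀ a b, θ (a + b) = θ a + θ b := fun a b => by
    have h1 : A.τ (dd (a + b) * (dd a * dd b)⁻¹) = 0 := by
      have hm := D₂.mul_mem (hdd a) (hdd b)
      have h := A.τ_mul _ (hp.rad₂.le (D₂.mul_mem (hdd (a + b)) (D₂.inv_mem hm))) _ (hp.rad₂.le hm)
      rw [inv_mul_cancel_right, A.τ_mul _ (hp.rad₂.le (hdd a)) _ (hp.rad₂.le (hdd b)), hdd', hdd', hdd'] at h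
      exact add_eq_right.1 h.symm
    have hm := D₂.mul_mem (hdd a) (hdd b)
    have hm' := D₂.mul_mem (hdd (a + b)) (D₂.inv_mem hm)
    have h2 : dd (a + b) * (dd a * dd b)⁻¹ ∈ D₂ ⊓ C :=
      hC2.le ⟨(A.τ_zero _ (hp.rad₂.le hm')).1 h1, hm'⟩
    have h := B.δ_mul _ hm' _ hm
    rw [inv_mul_cancel_right, (B.δ_zero _ hm').2 h2.2, zero_add, B.δ_mul _ (hdd a) _ (hdd b)] at h
    exact h
  -- the torus
  have hwt : ∀ ω : K, ω ≠ 0 → ∃ μ : L, μ ≠ 0 ∧ (∀ x, η (ω * x) = μ * η x) ∧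
      ∀ x, θ (ω * ω * x) = μ⁻¹ * θ x := by
    intro ω hω
    obtain ⟨g, hg, hgT, hgσ⟩ := A.torus ω hω
    obtain ⟨ω', -, hσ', -, hτ'⟩ := A.act g hg hgT
    obtain rfl : ω = ω' := by
      have h := A.σ_inj ((hgσ 1).symm.trans (hσ' 1))
      simpa using h
    have hg2 : g ∈ Subgroup.normalizer (D₂ : Set G) := by
      refine Subgroup.mem_normalizer_fintype fun d hd => ?_
      -- the other radical of `T`
      have hgd : g * d * g⁻¹ ∈ T := (Subgroup.mem_normalizer_iff.1 hgT d).1 (hp.rad₂.le hd)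
      by_contra hnot
      rcases eq_or_ne (A.τ (g * d * g⁻¹)) 0 with h0 | h0
      · have hd1 : g * d * g⁻¹ ∈ D₁ := (A.τ_zero _ hgd).1 h0
        have hdD : d ∈ D₁ := by
          have := (Subgroup.mem_normalizer_iff''.1 hg _).1 hd1
          rwa [show g⁻¹ * (g * d * g⁻¹) * g = d by group] at this
        obtain ⟨x, hx⟩ := A.σ_surj d ⟨hdD, (hC2.le ⟨hdD, hd⟩).2⟩
        refine hnot (((A.σ_mem (ω * x)) : _) |> fun h => ?_)
        rw [hC1] at h
        rw [← hx, hgσ]
        exact h.2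
      · -- a conjugate of `D₂` inside `T` other than `D₁`
        obtain ⟨k, hk⟩ : ∃ k, A.τ (g * d * g⁻¹) = k := ⟨_, rfl⟩
        set e := g * d * g⁻¹ with he
        set d' := dd k
        have h1 : A.τ (e * d'⁻¹) = 0 := by
          have h := A.τ_mul _ (T.mul_mem hgd (T.inv_mem (hp.rad₂.le (hdd k)))) _ (hp.rad₂.le (hdd k))
          rw [inv_mul_cancel_right, hk, hdd'] at h
          exact add_eq_right.1 h.symm
        have h2 : e * d'⁻¹ ∈ D₁ := (A.τ_zero _ (T.mul_mem hgd (T.inv_mem (hp.rad₂.le (hdd k))))).1 h1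
        have hsqe : e * e = 1 := by
          rw [he, _root_.conj_mul, omegaZ_sq (hp.el₂.le hd), mul_one, mul_inv_cancel]
        have hd'2 : d' * d' = 1 := omegaZ_sq (hp.el₂.le (hdd k))
        have hd'1 : d' ∉ D₁ := fun h => h0 (by
          rw [hk, ← hdd' k]; exact (A.τ_zero _ (hp.rad₂.le (hdd k))).2 h)
        have ha2 : e * d'⁻¹ * (e * d'⁻¹) = 1 := omegaZ_sq (hp.el₁.le h2)
        have hcom : d' * (e * d'⁻¹) = (e * d'⁻¹) * d' :=
          (commute_of_sq ha2 hd'2 (by rw [inv_mul_cancel_right]; exact hsqe)).symm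
        have h3 := hp.nat₁.nat.fix d' (hp.rad₂.le (hdd k)) hd'1 _ (hp.el₁.le h2) hcom
        refine hnot ?_
        have h4 : e * d'⁻¹ ∈ D₂ := (hC1.le ⟨h2, h3⟩).2
        have := D₂.mul_mem h4 (hdd k)
        rwa [inv_mul_cancel_right] at this
    obtain ⟨μ, hμ, hσ2, hδ2, -⟩ := B.act g hg2 hgT
    refine ⟨μ, hμ, fun x => B.σ_inj ?_, fun x => ?_⟩
    · rw [hη, ← hgσ, ← hσ2, hη]
    · have hm := (Subgroup.mem_normalizer_iff.1 hg2 (dd x)).1 (hdd x)
      have hn := D₂.mul_mem hm (D₂.inv_mem (hdd (ω * ω * x)))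
      have h1 : A.τ (g * dd x * g⁻¹ * (dd (ω * ω * x))⁻¹) = 0 := by
        have h := A.τ_mul _ (hp.rad₂.le hn) _ (hp.rad₂.le (hdd (ω * ω * x)))
        rw [inv_mul_cancel_right, hτ' _ (hp.rad₂.le (hdd x)), hdd', hdd'] at h
        exact add_eq_right.1 h.symm
      have h2 := (B.δ_zero _ hn).2 (hC2.le ⟨(A.τ_zero _ (hp.rad₂.le hn)).1 h1, hn⟩).2
      have h := B.δ_mul _ hn _ (hdd (ω * ω * x))
      rw [inv_mul_cancel_right, h2, zero_add, hδ2 _ (hdd x)] at h
      exact h.symm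
  obtain ⟨c, hc⟩ : ∃ c, θ c = η 1 :=
    ((Fintype.bijective_iff_injective_and_card θ).2 ⟨hθinj, hK.trans hL.symm⟩).2 (η 1)
  have hc0 : c ≠ 0 := fun h => by
    have h0 : θ 0 = 0 := add_eq_right.1 (by rw [← hθadd, add_zero])
    rw [h, h0] at hc
    have : η 0 = 0 := add_eq_right.1 (by rw [← hηadd, add_zero])
    exact one_ne_zero (hηinj (hc.symm.trans this.symm))
  have hval : ∀ x : K, x ≠ 0 → η x = θ (x⁻¹ * x⁻¹ * c) := by
    intro x hx
    obtain ⟨μ, hμ, h1, h2⟩ := hwt x hx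
    have e := h2 (x⁻¹ * x⁻¹ * c)
    rw [show x * x * (x⁻¹ * x⁻¹ * c) = c by field_simp, hc] at e
    have e' := h1 1
    rw [mul_one, e, mul_inv_cancel_left₀ hμ] at e'
    exact e'
  have hquad : ∀ x : K, x ≠ 0 → x + 1 ≠ 0 → x * x + x + 1 = 0 := by
    intro x hx hx1
    have e := hηadd x 1
    rw [hval _ hx1, hval x hx, hval 1 one_ne_zero, ← hθadd] at e
    have e2 := hθinj e
    have e3 : ((x + 1)⁻¹ + (x⁻¹ + 1)) * ((x + 1)⁻¹ + (x⁻¹ + 1)) * c = 0 := by
      have h4 : ((x + 1)⁻¹ * (x + 1)⁻¹ + x⁻¹ * x⁻¹ + 1) * c = 0 := by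
        linear_combination e2 + (x⁻¹ * x⁻¹ + 1) * c * CharTwo.two_eq_zero (R := K)
      rw [← h4]
      linear_combination ((x + 1)⁻¹ * (x⁻¹ + 1) + x⁻¹) * c * CharTwo.two_eq_zero (R := K)
    rcases mul_eq_zero.1 e3 with h | h
    · have h5 := mul_self_eq_zero.1 h
      field_simp at h5
      linear_combination h5 - x * CharTwo.two_eq_zero (R := K)
    · exact absurd h hc0
  have hsub : (Finset.univ : Finset K) ⊆
      (Polynomial.X ^ 2 + Polynomial.X + 1 : Polynomial K).roots.toFinset ∪ {0, 1} := by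
    intro x _
    by_cases hx : x = 0
    · simp [hx]
    by_cases hx1 : x + 1 = 0
    · simp [CharTwo.add_eq_zero.1 hx1]
    refine Finset.mem_union_left _ (Multiset.mem_toFinset.2 ((Polynomial.mem_roots ?_).2 ?_))
    · intro h
      have := congrArg (fun p => Polynomial.coeff p 2) h
      simp [Polynomial.coeff_X, Polynomial.coeff_one] at this
    · rw [Polynomial.IsRoot.def]
      simp only [Polynomial.eval_add, Polynomial.eval_pow, Polynomial.eval_X, Polynomial.eval_one]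
      rw [pow_two]
      exact hquad x hx hx1
  have h1 := Finset.card_le_card hsub
  rw [Finset.card_univ, hK] at h1
  have h2 := Finset.card_union_le (Polynomial.X ^ 2 + Polynomial.X + 1 : Polynomial K).roots.toFinset {0, 1}
  have h3 := (Multiset.toFinset_card_le (Polynomial.X ^ 2 + Polynomial.X + 1 : Polynomial K).roots).trans
    (Polynomial.card_roots' _)
  have h4 : (Polynomial.X ^ 2 + Polynomial.X + 1 : Polynomial K).natDegree ≤ 2 := by
    compute_degree
  have h5 := Finset.card_le_two (a := (0 : K)) (b := 1)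
  omega

end Cfsg.Agent.CIT
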