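/-
Simple CIT groups with TI Sylow 2-subgroups, and those with a pair of four-groups.

* `PSLList`       : `G` is one of the groups `PSL₂(F)` of the classification
* `pslList_of_iso`: a CIT group isomorphic to `PSL₂(F)` is on the list
* `classify_ti`   : TI Sylow 2-subgroups: `PSLList` or Suzuki order
* `pslList_of_selfCent`, `pslList_of_four` : a self-centralising four-group / a pair with `q = 2` gives `PSLList`
-/
import Cfsg.Agent.Lib.CIT.Master
import Cfsg.Agent.Lib.OddOrderTheorem.Basic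
import Cfsg.Agent.Lib.CentFour.Sylow
import Cfsg.Agent.Lib.PSL2.Centralizers
import Cfsg.Agent.S3921
import Cfsg.Agent.S0340
import Cfsg.Agent.S0508
import Cfsg.Prelude.Def_Exceptional

set_option autoImplicit false

open Cfsg
open scoped Pointwise

namespace Cfsg.Agent.CIT

universe u

variable {G : Type u} [Group G] [Finite G]

/-- One of the groups `PSL₂(F)` with `|F| = 9`, a power of two, or a prime `2 ^ k ± 1`. -/
def PSLList (G : Type*) [Group G] : Prop :=
  ∃ (F : Type) (_ : Field F) (_ : Fintype F),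
    (Fintype.card F = 9 ∨ (∃ n : ℕ, Fintype.card F = 2 ^ n) ∨
      ((Fintype.card F).Prime ∧ ∃ k : ℕ, Fintype.card F = 2 ^ k + 1 ∨ Fintype.card F + 1 = 2 ^ k)) ∧
    Nonempty (G ≃* Matrix.ProjectiveSpecialLinearGroup (Fin 2) F)

theorem two_dvd_card (hnc : ∃ a b : G, a * b ≠ b * a) [IsSimpleGroup G] : 2 ∣ Nat.card G := by
  by_contra h
  obtain ⟨a, b, hab⟩ := hnc
  have : Group.IsSolvable G :=
    OddOrderTheorem.solvable (Nat.not_even_iff_odd.1 fun he => h (even_iff_two_dvd.1 he))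
  exact hab (IsSimpleGroup.comm_iff_isSolvable.2 inferInstance a b)

theorem not_mulComm (hnc : ∃ a b : G, a * b ≠ b * a) : ¬ IsMulCommutative G := fun h => by
  obtain ⟨a, b, hab⟩ := hnc
  exact hab (h.is_comm.comm a b)

theorem pCore_eq_bot (hnc : ∃ a b : G, a * b ≠ b * a) [IsSimpleGroup G] : pCore 2 G = ⊥ := by
  haveI : Fact (Nat.Prime 2) := ⟨Nat.prime_two⟩
  refine (inferInstance : (pCore 2 G).Normal).eq_bot_or_eq_top.resolve_right fun h => ?_
  obtain ⟨a, b, hab⟩ := hnc
  haveI := (Cores.pCore_eq_top_iff.1 h).isNilpotent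
  exact hab (IsSimpleGroup.comm_iff_isSolvable.2 inferInstance a b)

theorem card_of_iso (hG : IsCIT G) (h2 : 2 ∣ Nat.card G) (F : Type) [Field F] [Fintype F]
    (e : G ≃* Matrix.ProjectiveSpecialLinearGroup (Fin 2) F) :
    Fintype.card F = 9 ∨ (∃ n : ℕ, Fintype.card F = 2 ^ n) ∨
      ((Fintype.card F).Prime ∧ ∃ k : ℕ, Fintype.card F = 2 ^ k + 1 ∨ Fintype.card F + 1 = 2 ^ k) := by
  haveI : Fact (Nat.Prime 2) := ⟨Nat.prime_two⟩
  obtain ⟨p, _, ⟨m, hm⟩, hp, hpm⟩ := FiniteField.card' F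
  change Fintype.card F = p ^ m at hpm
  rcases eq_or_ne p 2 with rfl | hp2
  · exact Or.inr (Or.inl ⟨m, hpm⟩)
  have hodd : Odd (Fintype.card F) := hpm ▸ (hp.odd_of_ne_two hp2).pow
  obtain ⟨t, ht⟩ := exists_prime_orderOf_dvd_card' (G := G) 2 h2
  obtain ⟨n, hn⟩ : ∃ n, Nat.card (Subgroup.centralizer ({e t} : Set (PSL2.PSL2 F))) = 2 ^ n := by
    have hC : IsPGroup 2 (Subgroup.centralizer ({e t} : Set (PSL2.PSL2 F))) := by
      rintro ⟨x, hx⟩
      obtain ⟨k, hk⟩ := hG t ht ⟨e.symm x, Subgroup.mem_centralizer_singleton_iff.2 (e.injective (by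
        rw [map_mul, map_mul, e.apply_symm_apply]
        exact Subgroup.mem_centralizer_singleton_iff.1 hx))⟩
      refine ⟨k, Subtype.ext ?_⟩
      show x ^ 2 ^ k = 1
      rw [← e.apply_symm_apply x, ← map_pow, show e.symm x ^ 2 ^ k = 1 from congrArg Subtype.val hk, map_one]
    exact IsPGroup.iff_card.1 hC
  rcases S3921.field_cases hodd (by rw [MulEquiv.orderOf_eq]; exact ht) hn with h | h | ⟨hpr, k, hk⟩
  · exact Or.inr (Or.inl ⟨2, by rw [h]; norm_num⟩)
  · exact Or.inl h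
  · refine Or.inr (Or.inr ⟨hpr, k, hk.imp_right fun h => ?_⟩)
    have := Nat.one_le_two_pow (n := k)
    omega

theorem pslList_of_iso (hG : IsCIT G) (h2 : 2 ∣ Nat.card G) (F : Type) [Field F] [Fintype F]
    (e : G ≃* Matrix.ProjectiveSpecialLinearGroup (Fin 2) F) : PSLList G :=
  ⟨F, inferInstance, inferInstance, card_of_iso hG h2 F e, ⟨e⟩⟩

/-- The TI case. -/
theorem classify_ti [IsSimpleGroup G] (hnc : ∃ a b : G, a * b ≠ b * a) (hG : IsCIT G) (hTI : TIMod G) :
    PSLList G ∨ IsSuzuki G := by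
  classical
  haveI : Fact (Nat.Prime 2) := ⟨Nat.prime_two⟩
  have h2 := two_dvd_card hnc
  obtain ⟨S⟩ := (inferInstance : Nonempty (Sylow 2 G))
  obtain ⟨E, -⟩ := exists_evenTI hG hTI (pCore_eq_bot hnc) S h2 (fun M hM hodd => by
    refine hM.eq_bot_or_eq_top.resolve_right fun h => ?_
    rw [h, Subgroup.card_top] at hodd
    exact Nat.not_even_iff_odd.2 hodd (even_iff_two_dvd.2 h2))
  rcases S0340.result E.zassenhaus with ⟨F, iF, iF', ⟨e⟩⟩ | h
  · exact Or.inl (pslList_of_iso hG h2 F e)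
  · exact Or.inr h

/-- A self-centralising four-group in a 2-subgroup of order at least `8`: the field is odd. -/
theorem psl_odd_of_selfCent [IsSimpleGroup G] (hnc : ∃ a b : G, a * b ≠ b * a) (hG : IsCIT G)
    (S : Sylow 2 G) {D₁ : Subgroup G} (hDS : D₁ ≤ (S : Subgroup G)) (hD4 : Nat.card D₁ = 2 ^ 2)
    (hcomm : ∀ a ∈ D₁, ∀ b ∈ D₁, a * b = b * a) (hDc : Subgroup.centralizer (D₁ : Set G) ≤ D₁)
    (h8 : 8 ≤ Nat.card (S : Subgroup G)) :
    ∃ (F : Type) (_ : Field F) (_ : Fintype F), Odd (Fintype.card F) ∧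
      Nonempty (G ≃* Matrix.ProjectiveSpecialLinearGroup (Fin 2) F) := by
  classical
  haveI : Fact (Nat.Prime 2) := ⟨Nat.prime_two⟩
  have hna := not_mulComm hnc
  obtain ⟨n, hn⟩ := IsPGroup.iff_card.1 S.2
  have hn3 : 3 ≤ n := by
    rw [hn] at h8
    exact (Nat.pow_le_pow_iff_right (show 1 < 2 by norm_num)).1 (show 2 ^ 3 ≤ 2 ^ n from h8)
  set A := D₁.subgroupOf (S : Subgroup G) with hA
  have hAc : Nat.card A = 2 ^ 2 := by rw [hA, Cores.card_subgroupOf hDS, hD4]
  have hC : Subgroup.centralizer (A : Set (S : Subgroup G)) = A := by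
    refine le_antisymm (fun g hg => ?_) fun g hg => Subgroup.mem_centralizer_iff.2 fun a ha => ?_
    · exact hDc (mem_centralizer'.2 fun d hd =>
        congrArg Subtype.val (Subgroup.mem_centralizer_iff.1 hg ⟨d, hDS hd⟩ hd))
    · exact Subtype.ext (hcomm _ ha _ hg)
  have hcl := PGroup.maximal_class_of_selfCentralizing n (S : Subgroup G) hn A hAc hC
  have hlcs := PGroup.card_lcs_of_maximal_class hn3 hn hcl (i := 1) le_rfl (by omega)
  rw [Subgroup.top_lowerCentralSeries_one] at hlcs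
  have hidx : (_root_.commutator (S : Subgroup G)).index = 4 := by
    have h := (_root_.commutator (S : Subgroup G)).card_mul_index
    rw [hlcs, hn, show 2 ^ n = 2 ^ (n - 1 - 1) * 4 by
      rw [show (4 : ℕ) = 2 ^ 2 from rfl, ← pow_add]; congr 1; omega] at h
    exact Nat.eq_of_mul_eq_mul_left (by positivity) h
  have h4S : Nat.card (S : Subgroup G) ≠ 4 := by
    rw [hn]
    have := Nat.pow_le_pow_right (show 0 < 2 by norm_num) hn3
    omega
  obtain ⟨⟨z, hz⟩, hz1⟩ := (omegaZ (S : Subgroup G)).ne_bot_iff_exists_ne_one.1 (omegaZ_ne_bot S.2 fun h => by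
    have h1 := hn
    rw [h, Subgroup.card_bot] at h1
    have := Nat.pow_le_pow_right (show 0 < 2 by norm_num) hn3
    omega)
  have hz2 : orderOf z = 2 := Involution.orderOf_of_sq (omegaZ_sq hz) fun e => hz1 (Subtype.ext e)
  rcases TwoGroupRecog.classify_of_index_commutator S.isPGroup' hidx h4S with
    ⟨k, hk⟩ | ⟨k, hk, a, b, ha, hb, hab⟩ | ⟨k, ⟨e⟩⟩
  · have hO : (⊥ : Subgroup G) = (oddCore (Subgroup.centralizer ({z} : Set G))).map
        (Subgroup.centralizer ({z} : Set G)).subtype := by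
      rw [eq_comm, Subgroup.map_eq_bot_iff_of_injective _ (Subgroup.subtype_injective _)]
      refine Subgroup.eq_bot_of_card_eq _ ?_
      obtain ⟨j, hj⟩ := IsPGroup.iff_card.1 (hG z hz2)
      have hd := Subgroup.card_subgroup_dvd_card (oddCore (Subgroup.centralizer ({z} : Set G)))
      rw [hj] at hd
      exact Nat.eq_one_of_dvd_coprimes
        ((Cores.coprime_card_pPrimeCore 2).pow_right j) dvd_rfl hd
    obtain ⟨F, iF, iF', hodd, ⟨e⟩⟩ := S0508.result S (2 ^ (k + 2))
      ((le_self_pow₀ one_le_two (by omega) : 2 ≤ 2 ^ (k + 2))) hk z hz2 (omegaZ_le _ hz)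
      (fun s hs => omegaZ_comm hz hs) ⊥ hO (fun h => absurd rfl h)
      (fun s _ hs => absurd (mem_centralizer'.2 fun y hy => by
        rw [Subgroup.mem_bot.1 hy, one_mul, mul_one]) hs)
      (fun Y hY hY1 => absurd (le_bot_iff.1 hY) hY1)
    exact ⟨F, iF, iF', hodd, ⟨e⟩⟩
  · exfalso
    let d : QDWreath.QDData (S : Subgroup G) (k + 3) :=
      ⟨a, b, (by omega : 3 ≤ k + 3), hk, ha, hb, (by rw [hab, show k + 3 - 1 = k + 2 by omega])⟩
    set h := QDWreath.tp (k + 3) (k + 3 - 1) with hh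
    have hsq : d.b 1 * d.b 1 = d.a h := by
      have e := d.b_odd_sq 0
      rwa [mul_zero, zero_add] at e
    have h4 : orderOf (d.b 1) = 4 := by
      have e := d.orderOf_b_odd 0
      rwa [mul_zero, zero_add] at e
    have hcen : ∀ s : (S : Subgroup G), s * d.a h = d.a h * s := by
      intro s
      rcases d.cases s with ⟨i, rfl⟩ | ⟨i, rfl⟩
      · rw [d.a_mul_a, d.a_mul_a, add_comm i h]
      · have e := d.conj_b_a i h
        rw [show d.rexp * h = h by
          unfold QDWreath.QDData.rexp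
          linear_combination d.half_sq - QDWreath.half_mul_two d.one_le] at e
        exact mul_inv_eq_iff_eq_mul.1 e
    have hzo : orderOf ((d.a h : (S : Subgroup G)) : G) = 2 := by
      rw [Subgroup.orderOf_coe]; exact d.orderOf_a_half
    have hCz : Subgroup.centralizer ({((d.a h : (S : Subgroup G)) : G)} : Set G) = (S : Subgroup G) :=
      S.3 (hG _ hzo) fun s hs => Subgroup.mem_centralizer_singleton_iff.2
        (congrArg Subtype.val (hcen ⟨s, hs⟩))
    refine CentFour.not_semidihedral hna S d (v := ((d.b 1 : (S : Subgroup G)) : G)) (d.b 1).2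
      (by rw [Subgroup.orderOf_coe, h4]) fun g hg => ?_
    have hgS : g ∈ (S : Subgroup G) := by
      rw [← hCz, Subgroup.mem_centralizer_singleton_iff, ← hsq, Subgroup.coe_mul]
      exact ((show Commute g _ from hg).mul_right hg).eq
    have hmem : ∀ j, Commute (d.a j) (d.b 1) → d.a j ∈ Subgroup.zpowers (d.b 1) := by
      intro j hj
      have e := d.conj_a_b j 1
      rw [hj.eq, mul_inv_cancel_right] at e
      have e1 := d.b_injective e
      have e2 : 2 * ((1 - QDWreath.tp (k + 3) (k + 3 - 2)) * j) = 0 := by linear_combination -e1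
      rcases (QDWreath.two_mul_eq_zero d.one_le).1 e2 with e3 | e3
      · rw [d.isUnit_moveFactor.mul_right_eq_zero] at e3
        rw [e3, d.a_zero]; exact one_mem _
      · have hfix : (1 - QDWreath.tp (k + 3) (k + 3 - 2)) * h = h := by
          rw [sub_mul, one_mul, hh, QDWreath.tp_mul_tp,
            QDWreath.tp_eq_zero (k + 3) (k + 3 - 2 + (k + 3 - 1)) (by omega), sub_zero]
        rw [d.isUnit_moveFactor.mul_left_cancel (e3.trans hfix.symm)]
        rw [← hsq]
        exact mul_mem (Subgroup.mem_zpowers _) (Subgroup.mem_zpowers _)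
    have hgc : Commute (⟨g, hgS⟩ : (S : Subgroup G)) (d.b 1) := Subtype.ext hg
    have hin : (⟨g, hgS⟩ : (S : Subgroup G)) ∈ Subgroup.zpowers (d.b 1) := by
      rcases d.cases ⟨g, hgS⟩ with ⟨i, hi⟩ | ⟨i, hi⟩
      · rw [hi] at hgc ⊢; exact hmem i hgc
      · rw [hi] at hgc ⊢
        have h1 := hgc.mul_left (Commute.refl (d.b 1))
        rw [d.b_mul_b] at h1
        have h2 := hmem _ h1
        rw [← d.b_mul_b] at h2
        exact (Subgroup.mul_mem_cancel_right _ (Subgroup.mem_zpowers _)).1 h2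
    obtain ⟨i, hi⟩ := Subgroup.mem_zpowers_iff.1 hin
    exact Subgroup.mem_zpowers_iff.2 ⟨i, by
      have := congrArg Subtype.val hi
      rwa [SubgroupClass.coe_zpow] at this⟩
  · exact (CentFour.not_quaternion hna S e).elim

theorem pslList_of_selfCent [IsSimpleGroup G] (hnc : ∃ a b : G, a * b ≠ b * a) (hG : IsCIT G)
    (S : Sylow 2 G) {D₁ : Subgroup G} (hDS : D₁ ≤ (S : Subgroup G)) (hD4 : Nat.card D₁ = 2 ^ 2)
    (hcomm : ∀ a ∈ D₁, ∀ b ∈ D₁, a * b = b * a) (hDc : Subgroup.centralizer (D₁ : Set G) ≤ D₁)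
    (h8 : 8 ≤ Nat.card (S : Subgroup G)) : PSLList G := by
  obtain ⟨F, iF, iF', -, ⟨e⟩⟩ := psl_odd_of_selfCent hnc hG S hDS hD4 hcomm hDc h8
  exact pslList_of_iso hG (two_dvd_card hnc) F e

/-- A pair with `q = 2`. -/
theorem pslList_of_four [IsSimpleGroup G] (hnc : ∃ a b : G, a * b ≠ b * a) (hG : IsCIT G)
    {D₁ D₂ T : Subgroup G} (hp : IsPair D₁ D₂ T 2) : PSLList G := by
  haveI : Fact (Nat.Prime 2) := ⟨Nat.prime_two⟩
  obtain ⟨S, hTS⟩ := hp.rad₁.T_two.exists_le_sylow
  refine pslList_of_selfCent hnc hG S (hp.rad₁.le.trans hTS) (by rw [hp.el₁]; exact hp.nat₁.nat.card_W)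
    (fun a ha b hb => omegaZ_comm (hp.el₁.le hb) ha) (hp.rad₁.centralizer_le hG) ?_
  have h := Subgroup.card_le_of_le hTS
  rw [hp.card_T] at h
  norm_num at h
  exact h

end Cfsg.Agent.CIT
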