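/-
Simple CIT groups, given that the subgroup `T` of a pair of order `64` is a Sylow 2-subgroup.

* `pair_cases` : in a pair `q ∈ {2, 4}`
* `classify`   : the list
-/
import Cfsg.Agent.Lib.CIT.Coords
import Cfsg.Agent.Lib.CIT.Simple
import Cfsg.Agent.Lib.CITPlane.Pair

set_option autoImplicit false

open Cfsg

namespace Cfsg.Agent.CIT

universe u

variable {G : Type u} [Group G] [Finite G]

theorem IsPair.q_cases (hG : IsCIT G) (hO : pCore 2 G = ⊥) {D₁ D₂ T : Subgroup G} {q : ℕ}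
    (hp : IsPair D₁ D₂ T q) : q = 2 ∨ q = 4 := by
  obtain ⟨n, hn, rfl⟩ := hp.nat₁.nat.q_pow
  have h := hp.q_le_four hG hO
  have : n ≤ 2 := (Nat.pow_le_pow_iff_right (show 1 < 2 by norm_num)).1 (h.trans (by norm_num))
  interval_cases n <;> norm_num

/-- Simple CIT groups, given Sylow subgroups of pairs of order `64`. -/
theorem classify_of [IsSimpleGroup G] (hnc : ∃ a b : G, a * b ≠ b * a) (hG : IsCIT G)
    (hS : ∀ D₁ D₂ T : Subgroup G, IsPair D₁ D₂ T 4 → ∃ S : Sylow 2 G, (S : Subgroup G) = T)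
    {TI : Prop} (hTI : TIMod G → TI) :
    PSLList G ∨
    (∃ (F : Type) (_ : Field F) (_ : Fintype F), Fintype.card F = 4 ∧
        Nonempty (G ≃* Matrix.ProjectiveSpecialLinearGroup (Fin 3) F)) ∨ TI := by
  classical
  by_cases hn : TIMod G
  · exact Or.inr (Or.inr (hTI hn))
  obtain ⟨D₁, D₂, T, q, hp⟩ := exists_pair hG (hyp hG) (pCore_eq_bot hnc) hn
  rcases hp.q_cases hG (pCore_eq_bot hnc) with rfl | rfl
  · exact Or.inl (pslList_of_four hnc hG hp)
  · exact Or.inr (Or.inl (CITPlane.psl_of_isPair hG hp (hS D₁ D₂ T hp)))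

end Cfsg.Agent.CIT
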